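import Cfsg.Agent.LeadWork.M11Uniq.Pairs
import Mathlib.GroupTheory.GroupAction.Quotient

/-!
The subgroup of index 11.
-/

set_option autoImplicit false
set_option linter.unusedSectionVars false
set_option linter.style.haveILetI false
set_option linter.unusedSimpArgs false
set_option linter.deprecated false

namespace Cfsg.Agent.LeadWork.M11Uniq

universe u

variable {G : Type u} [Group G] [Fintype G] [IsSimpleGroup G]
variable (hG : Nat.card G = 7920)
include hG

local notation "C[" t "]" => Subgroup.centralizer ({t} : Set G)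

theorem bad_data {t y : G} (ht : orderOf t = 2) (hy : orderOf y = 3) (hty : t * y * t⁻¹ = y⁻¹)
    (hbad : ¬ ∃ P : Sylow 3 G, (∀ a ∈ (P : Subgroup G), t * a * t⁻¹ = a⁻¹) ∧ y ∈ (P : Subgroup G)) :
    ∃ e : G, orderOf e = 3 ∧ e ∈ C[t] ∧ e * y = y * e := by
  haveI : Fact (Nat.Prime 3) := ⟨Nat.prime_three⟩
  obtain ⟨-, P, hyP, hle, huni⟩ := three_data hG hy
  obtain ⟨hP, hPc, -, -, h9⟩ := sylow_three hG P
  push Not at hbad
  obtain ⟨a, haP, ha⟩ : ∃ a ∈ (P : Subgroup G), t * a * t⁻¹ ≠ a⁻¹ := by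
    by_contra hcon
    push Not at hcon
    exact hbad P hcon hyP
  have hta : t * a * t⁻¹ ∈ (P : Subgroup G) := by
    refine huni _ ((mem_cent hG).2 ?_) (by rw [conj_pow, h9 a haP, mul_one, mul_inv_cancel])
    have h1 := (mem_cent hG).1 (hle haP)
    have h2 : a * y⁻¹ = y⁻¹ * a := (Commute.inv_right (show Commute a y from h1)).eq
    have hty' : t * y⁻¹ * t⁻¹ = y := by rw [← conj_inv, hty, inv_inv]
    conv_lhs => rw [← hty']
    conv_rhs => rw [← hty']
    rw [conj_mul, conj_mul, h2]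
  set e := a * (t * a * t⁻¹) with he
  have heP : e ∈ (P : Subgroup G) := mul_mem haP hta
  have he1 : e ≠ 1 := fun h => ha (eq_inv_of_mul_eq_one_right h)
  have hte : t * e * t⁻¹ = e := by
    calc t * e * t⁻¹ = (t * a * t⁻¹) * ((t * t) * a * (t * t)⁻¹) := by rw [he]; group
      _ = e := by rw [mul_self_of_orderOf_two ht, inv_one, one_mul, mul_one, hPc _ hta a haP]
  have hte' : t * e = e * t := mul_inv_eq_iff_eq_mul.1 hte
  by_cases h3 : e ^ 3 = 1
  · exact ⟨e, orderOf_three_of_pow h3 he1, (mem_cent hG).2 hte'.symm, hPc e heP y hyP⟩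
  · exact ⟨e ^ 3, orderOf_three_of_pow (by rw [← pow_mul]; exact h9 e heP) h3,
      (mem_cent hG).2 (Commute.pow_right hte' 3).eq.symm, hPc _ (pow_mem heP 3) y hyP⟩

theorem inverted_unique {t e y y' : G} (ht : orderOf t = 2) (he : orderOf e = 3) (het : e ∈ C[t])
    (hy : orderOf y = 3) (hty : t * y * t⁻¹ = y⁻¹) (hey : e * y = y * e) (hy' : orderOf y' = 3)
    (hty' : t * y' * t⁻¹ = y'⁻¹) (hey' : e * y' = y' * e) : y' ∈ Subgroup.zpowers y := by
  obtain ⟨-, P, heP, hle, huni⟩ := three_data hG he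
  obtain ⟨hP, hPc, -, -, h9⟩ := sylow_three hG P
  have hmem : ∀ z, orderOf z = 3 → e * z = z * e → z ∈ (P : Subgroup G) := fun z hz hc =>
    huni z ((mem_cent hG).2 hc.symm) (orderOf_dvd_iff_pow_eq_one.1 (hz ▸ by norm_num))
  let I : Subgroup G :=
    { carrier := {c | c ∈ (P : Subgroup G) ∧ t * c * t⁻¹ = c⁻¹}
      one_mem' := ⟨one_mem _, by simp⟩
      mul_mem' := fun {c d} hc hd => ⟨mul_mem hc.1 hd.1, by
        rw [← conj_mul, hc.2, hd.2, mul_inv_rev, hPc _ (inv_mem hc.1) _ (inv_mem hd.1)]⟩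
      inv_mem' := fun {c} hc => ⟨inv_mem hc.1, by rw [← conj_inv, hc.2]⟩ }
  have hI : Nat.card I ≤ 3 := by
    have hle' : Nat.card I * Nat.card (Subgroup.zpowers e) ≤ Nat.card (P : Subgroup G) := by
      rw [← Nat.card_prod]
      refine Nat.card_le_card_of_injective (fun p : I × Subgroup.zpowers e =>
        (⟨(p.1 : G) * p.2, mul_mem p.1.2.1 (Subgroup.zpowers_le.2 heP p.2.2)⟩ : (P : Subgroup G))) ?_
      rintro ⟨a, k⟩ ⟨a', k'⟩ h
      have h' : (a : G) * k = a' * k' := congrArg Subtype.val h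
      have hm : (a' : G)⁻¹ * a = k' * (k : G)⁻¹ := by
        rw [inv_mul_eq_iff_eq_mul, ← mul_assoc, ← h', mul_inv_cancel_right]
      have hI' := (mul_mem (inv_mem a'.2) a.2 : (a' : G)⁻¹ * a ∈ I)
      have hk' : (a' : G)⁻¹ * a ∈ C[t] :=
        hm ▸ mul_mem (Subgroup.zpowers_le.2 het k'.2) (inv_mem (Subgroup.zpowers_le.2 het k.2))
      have h1 : (a' : G)⁻¹ * a = 1 := by
        have h2 := hI'.2
        rw [← (mem_cent hG).1 hk', mul_inv_cancel_right] at h2
        have d1 : orderOf ((a' : G)⁻¹ * a) ∣ 2 :=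
          orderOf_dvd_of_pow_eq_one (by rw [sq]; nth_rewrite 2 [h2]; exact mul_inv_cancel _)
        have d2 : orderOf ((a' : G)⁻¹ * a) ∣ 9 := hP ▸ Subgroup.orderOf_dvd_natCard _ hI'.1
        exact orderOf_eq_one_iff.1 (Nat.eq_one_of_dvd_coprimes (by norm_num : Nat.Coprime 2 9) d1 d2)
      rw [inv_mul_eq_one] at h1
      obtain rfl : a' = a := Subtype.ext h1
      obtain rfl : k = k' := Subtype.ext (mul_left_cancel h')
      rfl
    rw [hP, Nat.card_zpowers, he] at hle'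
    omega
  have hyI : y ∈ I := ⟨hmem y hy hey, hty⟩
  have : Subgroup.zpowers y = I :=
    Subgroup.eq_of_le_of_card_ge (Subgroup.zpowers_le.2 hyI) (by rw [Nat.card_zpowers, hy]; exact hI)
  rw [this]
  exact ⟨hmem y' hy' hey', hty'⟩

theorem exists_cent_inverter {t e : G} (ht : orderOf t = 2) (he : orderOf e = 3) (het : e ∈ C[t]) :
    ∃ z : G, orderOf z = 2 ∧ z ∈ C[t] ∧ z ≠ t ∧ z * e * z⁻¹ = e⁻¹ := by
  haveI : Fact (Nat.Prime 3) := ⟨Nat.prime_three⟩
  obtain ⟨hC18, P, heP, hle, huni⟩ := three_data hG he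
  obtain ⟨hP, hPc, hCP, -, h9⟩ := sylow_three hG P
  have hte := (mem_cent hG).1 het
  have ht2 := mul_self_of_orderOf_two ht
  -- an inverting involution which commutes with `t`
  obtain ⟨z₀, hz₀, hinv⟩ := exists_inverter hG P
  have htC : t ∈ C[e] := (mem_cent hG).2 hte.symm
  have htP : ∀ a ∈ (P : Subgroup G), t * a * t⁻¹ ∈ (P : Subgroup G) := fun a ha =>
    huni _ (mul_mem (mul_mem htC (hle ha)) (inv_mem htC)) (by rw [conj_pow, h9 a ha, mul_one, mul_inv_cancel])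
  have hinv' : ∀ a ∈ (P : Subgroup G), (t * z₀ * t⁻¹) * a * (t * z₀ * t⁻¹)⁻¹ = a⁻¹ := fun a ha => by
    have hm : t⁻¹ * a * t ∈ (P : Subgroup G) := by
      have := htP a ha
      rw [inv_eq_self_of_orderOf_two ht] at this ⊢
      exact this
    calc t * z₀ * t⁻¹ * a * (t * z₀ * t⁻¹)⁻¹ = t * (z₀ * (t⁻¹ * a * t) * z₀⁻¹) * t⁻¹ := by group
      _ = a⁻¹ := by rw [hinv _ hm]; group
  have hp := mul_centralises hinv hinv'
  rw [hCP] at hp
  set p := t * z₀ * t⁻¹ * z₀⁻¹ with hpdef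
  have htz : t * z₀ * t⁻¹ = p * z₀ := by rw [hpdef, inv_mul_cancel_right]
  have htp : t * p * t⁻¹ = p⁻¹ := by
    have h1 : z₀ = t * (p * z₀) * t⁻¹ := by
      rw [← htz]
      calc z₀ = (t * t) * z₀ * (t * t)⁻¹ := by rw [ht2]; group
        _ = _ := by group
    rw [← conj_mul, htz, ← mul_assoc] at h1
    exact eq_inv_of_mul_eq_one_left (mul_eq_right.1 h1.symm)
  set z := p ^ 5 * z₀ with hzdef
  have hz5 : p ^ 5 ∈ (P : Subgroup G) := pow_mem hp 5
  have hzi : ∀ a ∈ (P : Subgroup G), z * a * z⁻¹ = a⁻¹ := fun a ha => by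
    calc z * a * z⁻¹ = p ^ 5 * (z₀ * a * z₀⁻¹) * (p ^ 5)⁻¹ := by rw [hzdef]; group
      _ = a⁻¹ := by rw [hinv a ha, hPc _ hz5 _ (inv_mem ha), mul_inv_cancel_right]
  have hz2 : orderOf z = 2 := by
    refine orderOf_two_of_mul ?_ fun h => ?_
    · calc z * z = p ^ 5 * (z₀ * p ^ 5 * z₀⁻¹) * (z₀ * z₀) := by rw [hzdef]; group
        _ = 1 := by rw [hinv _ hz5, mul_self_of_orderOf_two hz₀, mul_one, mul_inv_cancel]
    · have : z₀ ∈ (P : Subgroup G) := by
        rw [show z₀ = (p ^ 5)⁻¹ * z from by rw [hzdef, inv_mul_cancel_left], h, mul_one]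
        exact inv_mem hz5
      have := Subgroup.orderOf_dvd_natCard _ this
      rw [hz₀, hP] at this
      norm_num at this
  have hzt : z ∈ C[t] := by
    refine (mem_cent hG).2 (mul_inv_eq_iff_eq_mul.1 ?_).symm
    calc t * z * t⁻¹ = (t * p ^ 5 * t⁻¹) * (t * z₀ * t⁻¹) := by rw [hzdef]; group
      _ = z := by
        rw [commute_pow_of_inv htp, htz, ← mul_assoc, hzdef]
        congr 1
        rw [inv_mul_eq_iff_eq_mul, ← pow_add, show 5 + 5 = 9 + 1 by norm_num, pow_succ, h9 p hp, one_mul]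
  refine ⟨z, hz2, hzt, fun h => ?_, hzi e heP⟩
  have h1 : z * e * z⁻¹ = e := by rw [h]; exact mul_inv_eq_iff_eq_mul.2 hte.symm
  rw [hzi _ heP] at h1
  have := orderOf_dvd_of_pow_eq_one (n := 2) (x := e) (by rw [sq]; nth_rewrite 2 [← h1]; exact mul_inv_cancel _)
  rw [he] at this
  norm_num at this

theorem card_sylow_cent {t : G} (ht : orderOf t = 2) : Nat.card (Sylow 3 C[t]) ≤ 4 ∧
    ∀ w : C[t], orderOf (w : G) = 2 → (w : G) ≠ t → ∃ Q : Sylow 3 C[t], w • Q = Q := by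
  classical
  haveI : Fact (Nat.Prime 3) := ⟨Nat.prime_three⟩
  obtain ⟨e, he⟩ := exists_prime_orderOf_dvd_card' (G := C[t]) 3 (by rw [card_involution hG ht]; norm_num)
  have he' : orderOf (e : G) = 3 := by rw [Subgroup.orderOf_coe]; exact he
  have hte := (mem_cent hG).1 e.2
  obtain ⟨z, hz2, hzt, hzt', hzie⟩ := exists_cent_inverter hG ht he' e.2
  let zC : C[t] := ⟨z, hzt⟩
  have hze : zC * e * zC⁻¹ = e⁻¹ := Subtype.ext hzie
  -- the Sylow subgroup generated by `e`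
  let Z : Sylow 3 C[t] := Sylow.ofCard (Subgroup.zpowers e) (by
    rw [Nat.card_zpowers, he, card_involution hG ht]
    have h1 := (Nat.prime_three.pow_dvd_iff_le_factorization (n := 48) (k := 1) (by norm_num)).1 (by norm_num)
    have h2 : ¬ 2 ≤ (48 : ℕ).factorization 3 := fun h => by
      have := (Nat.prime_three.pow_dvd_iff_le_factorization (n := 48) (k := 2) (by norm_num)).2 h
      norm_num at this
    rw [show (48 : ℕ).factorization 3 = 1 by omega]
    rfl)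
  have hnorm : ∀ c : C[t], (c * e * c⁻¹ = e ∨ c * e * c⁻¹ = e⁻¹) →
      c ∈ Subgroup.normalizer ((Z : Subgroup C[t]) : Set C[t]) := by
    intro c hc
    rw [Subgroup.mem_normalizer_iff]
    have h1 : (Subgroup.zpowers e).map (MulAut.conj c).toMonoidHom = Subgroup.zpowers e := by
      rw [MonoidHom.map_zpowers]
      rcases hc with h | h <;> simp only [MulEquiv.coe_toMonoidHom, MulAut.conj_apply, h, Subgroup.zpowers_inv]
    intro x
    have h2 := Subgroup.mem_map_iff_mem (f := (MulAut.conj c).toMonoidHom)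
      (MulAut.conj c).injective (K := Subgroup.zpowers e) (x := x)
    rw [h1] at h2
    exact h2.symm
  set Nz := Subgroup.normalizer ((Z : Subgroup C[t]) : Set C[t]) with hNz
  have hcard : Nat.card (Sylow 3 C[t]) ≤ 4 := by
    rw [Sylow.card_eq_index_normalizer Z]
    change Nz.index ≤ 4
    have hNd : Nat.card Nz ∣ 48 := card_involution hG ht ▸ Subgroup.card_subgroup_dvd_card _
    have heN : e ∈ Nz := hnorm e (Or.inl (mul_inv_cancel_right e e))
    have hzN : zC ∈ Nz := hnorm zC (Or.inr hze)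
    let tC : C[t] := ⟨t, (mem_cent hG).2 rfl⟩
    have htN : tC ∈ Nz := hnorm tC (Or.inl (Subtype.ext (mul_inv_eq_iff_eq_mul.2 hte.symm)))
    have hzo : orderOf zC = 2 := by rw [← Subgroup.orderOf_coe]; exact hz2
    have hto : orderOf tC = 2 := by rw [← Subgroup.orderOf_coe]; exact ht
    have h4 := four_dvd_of_involutions hzo hto (fun h => hzt' (congrArg Subtype.val h))
      (Subtype.ext ((mem_cent hG).1 hzt)) hzN htN
    have h3 : 3 ∣ Nat.card Nz := he ▸ Subgroup.orderOf_dvd_natCard _ heN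
    have h12 : 12 ∣ Nat.card Nz := (show Nat.Coprime 4 3 by norm_num).mul_dvd_of_dvd_of_dvd h4 h3
    have h12' := Nat.le_of_dvd Nat.card_pos h12
    have := Subgroup.card_mul_index Nz
    rw [card_involution hG ht] at this
    nlinarith
  refine ⟨hcard, fun w hw hwt => ?_⟩
  obtain ⟨c, hc, hcw⟩ := trans_noncentral hG ht hz2 hw hzt' hwt ((mem_cent hG).1 hzt) ((mem_cent hG).1 w.2)
  let cC : C[t] := ⟨c, hc⟩
  have hwc : w = cC * zC * cC⁻¹ := Subtype.ext hcw.symm
  refine ⟨cC • Z, ?_⟩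
  rw [hwc, smul_smul, inv_mul_cancel_right, mul_smul, Sylow.smul_eq_iff_mem_normalizer.2 (hnorm zC (Or.inr hze))]

set_option maxHeartbeats 2000000 in
theorem exists_good : ∃ (t w y : G) (P : Sylow 3 G), orderOf t = 2 ∧ orderOf w = 2 ∧ w ≠ t ∧ w * t = t * w ∧
    y ≠ 1 ∧ (w * y) ^ 3 = 1 ∧ y ^ 3 = 1 ∧ y ∈ (P : Subgroup G) ∧ ∀ a ∈ (P : Subgroup G), t * a * t⁻¹ = a⁻¹ := by
  classical
  haveI : Fact (Nat.Prime 2) := ⟨Nat.prime_two⟩
  haveI : Fact (Nat.Prime 3) := ⟨Nat.prime_three⟩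
  obtain ⟨t, ht⟩ := exists_prime_orderOf_dvd_card' (G := G) 2 (by rw [hG]; norm_num)
  obtain ⟨w, hw, hwt, hc⟩ : ∃ w : G, orderOf w = 2 ∧ w ≠ t ∧ w * t = t * w := by
    obtain ⟨e, he⟩ := exists_prime_orderOf_dvd_card' (G := C[t]) 3 (by rw [card_involution hG ht]; norm_num)
    obtain ⟨z, hz, hzt, hne, -⟩ := exists_cent_inverter hG ht (show orderOf (e : G) = 3 by rw [Subgroup.orderOf_coe]; exact he) e.2
    exact ⟨z, hz, hne, (mem_cent hG).1 hzt⟩
  by_contra hcon
  push Not at hcon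
  -- both `w` and `w * t` give failures
  have hwtw : w * t ≠ t := fun h => ne_one_of_orderOf_two hw (mul_eq_right.1 h)
  have hwt2 := mul_of_commuting_involutions hw ht hwt hc
  have hwtc : w * t * t = t * (w * t) := by rw [← mul_assoc, ← hc]
  have get : ∀ v : G, orderOf v = 2 → v ≠ t → v * t = t * v → ∃ y v₁ e : G, orderOf y = 3 ∧
      t * y * t⁻¹ = y⁻¹ ∧ orderOf v₁ = 2 ∧ v ≠ v₁ ∧ v * v₁ = v₁ * v ∧ y * v * y⁻¹ = v₁ ∧
      y * v₁ * y⁻¹ = v * v₁ ∧ t * v₁ * t⁻¹ = v * v₁ ∧ orderOf e = 3 ∧ e ∈ C[t] ∧ e * y = y * e := by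
    intro v hv hvt hvc
    obtain ⟨y, v₁, hy, hty, hvy, h1, h2, h3, h4, h5, h6⟩ := pair_data hG hv ht hvt hvc
    obtain ⟨e, he, het, hey⟩ := bad_data hG ht hy hty (fun ⟨P, hP, hyP⟩ => by
      obtain ⟨a, ha, hne⟩ := hcon t v y P ht hv hvt hvc (fun h => by rw [h, orderOf_one] at hy; omega) hvy
        (hy ▸ pow_orderOf_eq_one y) hyP
      exact hne (hP a ha))
    exact ⟨y, v₁, e, hy, hty, h1, h2, h3, h4, h5, h6, he, het, hey⟩
  obtain ⟨y, w₁, e, hy, hty, hw₁, hww₁, hcw₁, hyw, hyw₁, htw₁, he, het, hey⟩ := get w hw hwt hc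
  obtain ⟨y', w₁', e', hy', hty', hw₁', hww₁', hcw₁', hyw', hyw₁', htw₁', he', het', hey'⟩ := get _ hwt2 hwtw hwtc
  let H := Subgroup.closure ({y, w * y * w⁻¹} : Set G)
  have hyH : y ∈ H := Subgroup.subset_closure (by simp)
  have hy₁H : w * y * w⁻¹ ∈ H := Subgroup.subset_closure (by simp)
  have hconjH : ∀ x ∈ H, w * x * w⁻¹ ∈ H := by
    intro x hx
    induction hx using Subgroup.closure_induction with
    | mem x hx =>
      rcases hx with rfl | rfl
      · exact hy₁H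
      · rw [show w * (w * y * w⁻¹) * w⁻¹ = (w * w) * y * (w * w)⁻¹ by group, mul_self_of_orderOf_two hw]
        simpa using hyH
    | one => simp
    | mul a b _ _ ha hb => rw [← conj_mul]; exact mul_mem ha hb
    | inv a _ ha => rw [← conj_inv]; exact inv_mem ha
  -- `w` moves the Sylow subgroups of `e`
  obtain ⟨hle4, hfix⟩ := card_sylow_cent hG ht
  let wC : C[t] := ⟨w, (mem_cent hG).2 hc⟩
  let mk : ∀ (f : G), orderOf f = 3 → f ∈ C[t] → Sylow 3 C[t] := fun f hf hft =>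
    Sylow.ofCard (Subgroup.zpowers (⟨f, hft⟩ : C[t])) (by
      rw [Nat.card_zpowers, ← Subgroup.orderOf_coe, hf, card_involution hG ht]
      have h1 := (Nat.prime_three.pow_dvd_iff_le_factorization (n := 48) (k := 1) (by norm_num)).1 (by norm_num)
      have h2 : ¬ 2 ≤ (48 : ℕ).factorization 3 := fun h => by
        have := (Nat.prime_three.pow_dvd_iff_le_factorization (n := 48) (k := 2) (by norm_num)).2 h
        norm_num at this
      rw [show (48 : ℕ).factorization 3 = 1 by omega]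
      rfl)
  have comm_of : ∀ (f : G) (hf : orderOf f = 3) (hft : f ∈ C[t]) (Q : Sylow 3 C[t]) (z : G), Q = mk f hf hft →
      f * z = z * f → ∀ q ∈ (Q : Subgroup C[t]), (q : G) * z = z * q := by
    rintro f hf hft Q z rfl hfz q hq
    obtain ⟨i, rfl⟩ := Subgroup.mem_zpowers_iff.1 hq
    rw [Subgroup.coe_zpow]
    exact (Commute.zpow_left hfz i).eq
  have conj_comm : ∀ (Q : Sylow 3 C[t]) (c : C[t]) (z : G), (∀ q ∈ (Q : Subgroup C[t]), (q : G) * z = z * q) →
      ∀ q ∈ ((c • Q : Sylow 3 C[t]) : Subgroup C[t]), (q : G) * ((c : G) * z * (c : G)⁻¹) = (c : G) * z * (c : G)⁻¹ * q := by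
    intro Q c z h q hq
    rw [Sylow.coe_subgroup_smul, Subgroup.mem_pointwise_smul_iff_inv_smul_mem, ← map_inv, MulAut.smul_def,
      MulAut.conj_apply] at hq
    have := h _ hq
    simp only [Subgroup.coe_mul, Subgroup.coe_inv, inv_inv] at this
    calc (q : G) * ((c : G) * z * (c : G)⁻¹) = c * ((c : G)⁻¹ * q * c * z) * (c : G)⁻¹ := by group
      _ = c * (z * ((c : G)⁻¹ * q * c)) * (c : G)⁻¹ := by rw [this]
      _ = c * z * (c : G)⁻¹ * q := by group
  have htw : t * w * t⁻¹ = w := by rw [← hc, mul_inv_cancel_right]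
  -- the Sylow subgroups are not fixed
  have moved : ∀ (v v₁ z f : G) (hf : orderOf f = 3) (hft : f ∈ C[t]) (vC : C[t]), (vC : G) = v → orderOf v = 2 →
      v * t = t * v → v ≠ v₁ → v * v₁ = v₁ * v → orderOf v₁ = 2 → z * v * z⁻¹ = v₁ → orderOf z = 3 →
      t * z * t⁻¹ = z⁻¹ → f * z = z * f → z * v₁ * z⁻¹ = v * v₁ → vC • mk f hf hft ≠ mk f hf hft := by
    intro v v₁ z f hf hft vC hvC hv hvc hvv₁ hcv hv₁ hzv hz htz hfz hzv₁ heq
    have hmem : (⟨f, hft⟩ : C[t]) ∈ ((vC • mk f hf hft : Sylow 3 C[t]) : Subgroup C[t]) := by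
      rw [heq]; exact Subgroup.mem_zpowers _
    have hfz' := conj_comm _ vC z (comm_of f hf hft _ z rfl hfz) _ hmem
    rw [hvC] at hfz'
    have hzc : orderOf (v * z * v⁻¹) = 3 := by rw [orderOf_conj, hz]
    have htvz : t * (v * z * v⁻¹) * t⁻¹ = (v * z * v⁻¹)⁻¹ := by
      calc t * (v * z * v⁻¹) * t⁻¹ = (t * v) * z * (t * v)⁻¹ := by group
        _ = (v * t) * z * (v * t)⁻¹ := by rw [hvc]
        _ = v * (t * z * t⁻¹) * v⁻¹ := by group
        _ = (v * z * v⁻¹)⁻¹ := by rw [htz]; group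
    obtain ⟨i, hi⟩ := Subgroup.mem_zpowers_iff.1 (inverted_unique hG ht hf hft hz htz hfz hzc htvz hfz')
    have hz3 : z ^ (3 : ℤ) = 1 := by
      have := pow_orderOf_eq_one z
      rw [hz] at this
      exact_mod_cast this
    have hi' : z ^ i = z ^ (i % 3) := by
      conv_lhs => rw [← Int.mul_ediv_add_emod i 3, zpow_add, zpow_mul, hz3, one_zpow, one_mul]
    rcases (by omega : i % 3 = 0 ∨ i % 3 = 1 ∨ i % 3 = 2) with h | h | h
    · rw [hi', h, zpow_zero, eq_comm, conj_eq_one_iff] at hi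
      rw [hi, orderOf_one] at hz
      omega
    · rw [hi', h, zpow_one] at hi
      have h1 : v * z = z * v := mul_inv_eq_iff_eq_mul.1 hi.symm
      rw [← h1, mul_inv_cancel_right] at hzv
      exact hvv₁ hzv
    · have hzz : v * z * v⁻¹ = z⁻¹ := by
        rw [← hi, hi', h, show (2 : ℤ) = 3 + -1 by norm_num, zpow_add, hz3, one_mul, zpow_neg_one]
      -- then `z ^ 2` lies in the four group
      have hzp : z⁻¹ * z⁻¹ = v * v₁ := by
        calc z⁻¹ * z⁻¹ = (v * z * v⁻¹) * z⁻¹ := by rw [hzz]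
          _ = v * (z * v * z⁻¹) := by rw [inv_eq_self_of_orderOf_two hv]; group
          _ = v * v₁ := by rw [hzv]
      have h2 := mul_of_commuting_involutions hv hv₁ hvv₁ hcv
      rw [← hzp, ← sq, orderOf_pow' _ (by norm_num), orderOf_inv, hz] at h2
      norm_num at h2
  set Z := mk e he het
  set Z' := mk e' he' het'
  have hmv : wC • Z ≠ Z := moved w w₁ y e he het wC rfl hw hc hww₁ hcw₁ hw₁ hyw hy hty hey hyw₁
  let wtC : C[t] := ⟨w * t, (mem_cent hG).2 hwtc⟩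
  have hmv' : wtC • Z' ≠ Z' := moved (w * t) w₁' y' e' he' het' wtC rfl hwt2 hwtc hww₁' hcw₁' hw₁' hyw' hy' hty' hey' hyw₁'
  have hsame : ∀ Q : Sylow 3 C[t], wtC • Q = wC • Q := by
    intro Q
    let tC : C[t] := ⟨t, (mem_cent hG).2 rfl⟩
    have : wtC = wC * tC := rfl
    rw [this, mul_smul]
    congr 1
    refine Sylow.smul_eq_iff_mem_normalizer.2 ?_
    show tC ∈ Subgroup.normalizer ((Q : Subgroup C[t]) : Set C[t])
    rw [Subgroup.mem_normalizer_iff]
    intro x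
    have : tC * x * tC⁻¹ = x := Subtype.ext (by
      show t * (x : G) * t⁻¹ = x
      rw [← (mem_cent hG).1 x.2, mul_inv_cancel_right])
    rw [this]
  rw [hsame] at hmv'
  have hww : ∀ Q : Sylow 3 C[t], wC • wC • Q = Q := fun Q => by
    rw [smul_smul, show wC * wC = 1 from Subtype.ext (mul_self_of_orderOf_two hw), one_smul]
  obtain ⟨F, hF⟩ := hfix wC hw hwt
  have hpair : Z' = Z ∨ Z' = wC • Z := by
    by_contra h
    push Not at h
    let g : Fin 5 → Sylow 3 C[t] := ![Z, wC • Z, Z', wC • Z', F]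
    have hg : Function.Injective g := by
      have e1 : wC • Z' ≠ Z := fun hh => h.2 (by rw [← hh, hww])
      have e2 : wC • Z' ≠ wC • Z := fun hh => h.1 (smul_left_cancel _ hh)
      have f1 : F ≠ Z := fun hh => hmv (hh ▸ hF)
      have f2 : F ≠ wC • Z := fun hh => hmv (by
        have := hh ▸ hF
        rw [hww] at this
        exact this.symm)
      have f3 : F ≠ Z' := fun hh => hmv' (hh ▸ hF)
      have f4 : F ≠ wC • Z' := fun hh => hmv' (by
        have := hh ▸ hF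
        rw [hww] at this
        exact this.symm)
      intro i j hij
      fin_cases i <;> fin_cases j <;> simp [g] at hij ⊢ <;>
        first
          | exact absurd hij hmv.symm | exact absurd hij hmv | exact absurd hij h.1 | exact absurd hij.symm h.1
          | exact absurd hij h.2 | exact absurd hij.symm h.2 | exact absurd hij e1 | exact absurd hij.symm e1
          | exact absurd hij e2 | exact absurd hij.symm e2 | exact absurd hij hmv' | exact absurd hij.symm hmv'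
          | exact absurd hij f1 | exact absurd hij.symm f1 | exact absurd hij f2 | exact absurd hij.symm f2
          | exact absurd hij f3 | exact absurd hij.symm f3 | exact absurd hij f4 | exact absurd hij.symm f4
    have := Nat.card_le_card_of_injective g hg
    rw [Nat.card_fin] at this
    omega
  have he'mem : (⟨e', het'⟩ : C[t]) ∈ (Z' : Subgroup C[t]) := Subgroup.mem_zpowers _
  have hy'H : y' ∈ H := by
    rcases hpair with h | h
    · have h1 := comm_of e he het Z y rfl hey _ (h ▸ he'mem)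
      exact Subgroup.zpowers_le.2 hyH (inverted_unique hG ht he' het' hy hty h1 hy' hty' hey')
    · have h1 := conj_comm Z wC y (comm_of e he het Z y rfl hey) _ (h ▸ he'mem)
      have htv : t * (w * y * w⁻¹) * t⁻¹ = (w * y * w⁻¹)⁻¹ := by
        calc t * (w * y * w⁻¹) * t⁻¹ = (t * w) * y * (t * w)⁻¹ := by group
          _ = (w * t) * y * (w * t)⁻¹ := by rw [hc]
          _ = w * (t * y * t⁻¹) * w⁻¹ := by group
          _ = (w * y * w⁻¹)⁻¹ := by rw [hty]; group
      exact Subgroup.zpowers_le.2 hy₁H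
        (inverted_unique hG ht he' het' (by rw [orderOf_conj, hy]) htv h1 hy' hty' hey')
  have hwtH : w * t ∈ H := by
    set v := w * t
    have hv1 : v * y' * v⁻¹ ∈ H := by
      rw [show v * y' * v⁻¹ = w * (t * y' * t⁻¹) * w⁻¹ from by simp [v, mul_assoc], hty']
      exact hconjH _ (inv_mem hy'H)
    have hvv : v * w₁' ∈ H := by
      rw [show v * w₁' = (v * y' * v⁻¹) * y'⁻¹ by rw [← hyw', inv_eq_self_of_orderOf_two hwt2]; group]
      exact mul_mem hv1 (inv_mem hy'H)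
    have hvi := inv_eq_self_of_orderOf_two hwt2
    have hw1i := mul_self_of_orderOf_two hw₁'
    have : v = y' * (v * w₁') * y'⁻¹ := by
      rw [← conj_mul, hyw', hyw₁', hcw₁', ← mul_assoc, hw1i, one_mul]
    rw [this]
    exact mul_mem (mul_mem hy'H hvv) (inv_mem hy'H)
  have hwH : w ∈ H := by
    have hvv : w * w₁ ∈ H := by
      rw [show w * w₁ = (w * y * w⁻¹) * y⁻¹ by rw [← hyw, inv_eq_self_of_orderOf_two hw]; group]
      exact mul_mem hy₁H (inv_mem hyH)
    have : w = y * (w * w₁) * y⁻¹ := by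
      rw [← conj_mul, hyw, hyw₁, hcw₁, ← mul_assoc, mul_self_of_orderOf_two hw₁, one_mul]
    rw [this]
    exact mul_mem (mul_mem hyH hvv) (inv_mem hyH)
  have htH : t ∈ H := by
    rw [show t = w⁻¹ * (w * t) by group]
    exact mul_mem (inv_mem hwH) hwtH
  -- every element of `H` permutes the four group cyclically
  let pat : G → Prop := fun g => (g * w * g⁻¹ = w ∧ g * w₁ * g⁻¹ = w₁) ∨
    (g * w * g⁻¹ = w₁ ∧ g * w₁ * g⁻¹ = w * w₁) ∨ (g * w * g⁻¹ = w * w₁ ∧ g * w₁ * g⁻¹ = w)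
  have hp1 : ∀ g h : G, pat g → pat h → pat (g * h) := by
    intro g h hg hh
    have k : ∀ x : G, g * h * x * (g * h)⁻¹ = g * (h * x * h⁻¹) * g⁻¹ := fun x => by group
    have kk : ∀ a b : G, g * (a * b) * g⁻¹ = (g * a * g⁻¹) * (g * b * g⁻¹) := fun a b => by group
    have w2 := mul_self_of_orderOf_two hw
    have w12 := mul_self_of_orderOf_two hw₁
    have r1 : w * w₁ * w = w₁ := by rw [hcw₁, mul_assoc, w2, mul_one]
    have r2 : w₁ * (w * w₁) = w := by rw [hcw₁, ← mul_assoc, w12, one_mul]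
    simp only [pat, k]
    rcases hh with ⟨a, b⟩ | ⟨a, b⟩ | ⟨a, b⟩ <;> rw [a, b] <;>
      rcases hg with ⟨c, d⟩ | ⟨c, d⟩ | ⟨c, d⟩ <;> simp only [kk, c, d, r1, r2] <;> tauto
  have hpinv : ∀ g, pat g → pat g⁻¹ := by
    intro g hg
    obtain ⟨n, hn⟩ : ∃ n : ℕ, g⁻¹ = g ^ n := ⟨orderOf g - 1, by
      rw [inv_eq_iff_mul_eq_one, ← pow_succ', Nat.sub_add_cancel (orderOf_pos g), pow_orderOf_eq_one]⟩
    rw [hn]
    clear hn
    induction n with
    | zero => exact Or.inl ⟨by simp, by simp⟩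
    | succ n ih => rw [pow_succ]; exact hp1 _ _ ih hg
  have hyinv : y * (w * w₁) * y⁻¹ = w := by
    rw [← conj_mul, hyw, hyw₁, hcw₁, ← mul_assoc, mul_self_of_orderOf_two hw₁, one_mul]
  have hpH : ∀ g ∈ H, pat g := by
    intro g hg
    induction hg using Subgroup.closure_induction with
    | mem x hx =>
      rcases hx with rfl | rfl
      · exact Or.inr (Or.inl ⟨hyw, hyw₁⟩)
      · have hw2 : w * w * w⁻¹ = w := mul_inv_cancel_right w w
        have hpw : pat w := Or.inl ⟨hw2, by rw [hcw₁, mul_inv_cancel_right]⟩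
        exact hp1 _ _ (hp1 _ _ hpw (Or.inr (Or.inl ⟨hyw, hyw₁⟩))) (hpinv _ hpw)
    | one => exact Or.inl ⟨by simp, by simp⟩
    | mul a b _ _ ha hb => exact hp1 a b ha hb
    | inv a _ ha => exact hpinv a ha
  rcases hpH t htH with ⟨-, h2⟩ | ⟨h1, -⟩ | ⟨h1, -⟩
  · rw [htw₁] at h2
    exact ne_one_of_orderOf_two hw (mul_eq_right.1 h2)
  · exact hww₁ (htw.symm.trans h1)
  · rw [htw] at h1
    exact ne_one_of_orderOf_two hw₁ (mul_eq_left.1 h1.symm)

set_option maxHeartbeats 1000000 in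
/-- The index eleven subgroup. -/
theorem exists_index_eleven : ∃ H : Subgroup G, H.index = 11 := by
  classical
  obtain ⟨t, w, y, P, ht, hw, hwt, hc, hy1, hwy, hy3, hyP, hinv⟩ := exists_good hG
  obtain ⟨hP, hPc, hCP, -, h9⟩ := sylow_three hG P
  obtain ⟨R, hR8, hRC, htR, hRn, hRP, huniq, hfree⟩ := exists_core hG ht P hinv
  have hwC : w ∈ C[t] := (mem_cent hG).2 hc
  have hwi := inv_eq_self_of_orderOf_two hw
  have hw2 := mul_self_of_orderOf_two hw
  have hwR : ∀ r ∈ R, w * r * w ∈ R := fun r hr => by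
    have := hRn w hwC r hr
    rwa [hwi] at this
  have hPR : ∀ a ∈ (P : Subgroup G), a ∈ R → a = 1 := fun a ha haR => by
    have d1 : orderOf a ∣ 9 := hP ▸ Subgroup.orderOf_dvd_natCard _ ha
    have d2 : orderOf a ∣ 8 := hR8 ▸ Subgroup.orderOf_dvd_natCard _ haR
    exact orderOf_eq_one_iff.1 (Nat.eq_one_of_dvd_coprimes (by norm_num : Nat.Coprime 9 8) d1 d2)
  -- regularity on the nontrivial elements
  have hsurj : ∀ c ∈ (P : Subgroup G), c ≠ 1 → ∃ q ∈ R, q * y * q⁻¹ = c := by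
    let f : R → {b : (P : Subgroup G) // b ≠ 1} := fun q =>
      ⟨⟨(q : G) * y * (q : G)⁻¹, hRP q q.2 y hyP⟩, fun h =>
        hy1 (conj_eq_one_iff.1 (congrArg Subtype.val h))⟩
    have hf : Function.Bijective f := by
      refine (Nat.bijective_iff_injective_and_card _).2 ⟨fun q q' h => ?_, ?_⟩
      · have h' : (q : G) * y * (q : G)⁻¹ = q' * y * (q' : G)⁻¹ := congrArg (fun b => (b.1 : G)) h
        by_contra hne
        refine hy1 (hfree _ (mul_mem (inv_mem q'.2) q.2) (fun h1 => hne (Subtype.ext (inv_mul_eq_one.1 h1).symm)) y hyP ?_)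
        calc (q' : G)⁻¹ * q * y = (q' : G)⁻¹ * (q * y * (q : G)⁻¹) * q := by group
          _ = (q' : G)⁻¹ * (q' * y * (q' : G)⁻¹) * q := by rw [h']
          _ = y * ((q' : G)⁻¹ * q) := by group
      · rw [hR8, Nat.card_eq_fintype_card, Fintype.card_subtype_compl, Fintype.card_subtype_eq,
          ← Nat.card_eq_fintype_card, hP]
    intro c hc hc1
    obtain ⟨q, hq⟩ := hf.2 ⟨⟨c, hc⟩, fun h => hc1 (congrArg Subtype.val h)⟩
    exact ⟨q, q.2, congrArg (fun b => (b.1 : G)) hq⟩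
  -- the key relation
  have key : ∀ c ∈ (P : Subgroup G), c ≠ 1 → ∃ a ∈ (P : Subgroup G), ∃ b ∈ (P : Subgroup G), ∃ r ∈ R,
      w * c * w = a * w * b * r := by
    intro c hc hc1
    obtain ⟨q, hq, rfl⟩ := hsurj c hc hc1
    set s := w * q * w with hs
    have hsR : s ∈ R := hwR q hq
    refine ⟨s * y⁻¹ * s⁻¹, hRP s hsR _ (inv_mem hyP), q * y⁻¹ * q⁻¹, hRP q hq _ (inv_mem hyP), q * s⁻¹,
      mul_mem hq (inv_mem hsR), ?_⟩
    have hrel : w * y * w = y⁻¹ * w * y⁻¹ := by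
      rw [pow_succ, pow_succ, pow_one] at hwy
      calc w * y * w = (w * y) * (w * y) * (w * y) * (y⁻¹ * w⁻¹ * y⁻¹) := by group
        _ = y⁻¹ * w * y⁻¹ := by rw [hwy, one_mul, hwi]
    have hsw : s * w = w * q := by rw [hs, mul_assoc, hw2, mul_one]
    have hqw : w * q = s * w := hsw.symm
    calc w * (q * y * q⁻¹) * w = (w * q) * y * (q⁻¹ * w) := by group
      _ = (s * w) * y * (w * s⁻¹) := by
          rw [hqw]
          congr 1
          rw [eq_mul_inv_iff_mul_eq, mul_assoc, inv_mul_eq_iff_eq_mul, hs]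
          simp only [← mul_assoc]
          rw [hw2, one_mul]
      _ = s * (w * y * w) * s⁻¹ := by group
      _ = s * (y⁻¹ * w * y⁻¹) * s⁻¹ := by rw [hrel]
      _ = s * y⁻¹ * s⁻¹ * (s * w) * y⁻¹ * s⁻¹ := by group
      _ = s * y⁻¹ * s⁻¹ * (w * q) * y⁻¹ * s⁻¹ := by rw [hsw]
      _ = s * y⁻¹ * s⁻¹ * w * (q * y⁻¹ * q⁻¹) * (q * s⁻¹) := by group
  let X : Set G := {g | (∃ a ∈ (P : Subgroup G), ∃ r ∈ R, g = a * r) ∨
    (∃ a ∈ (P : Subgroup G), ∃ b ∈ (P : Subgroup G), ∃ r ∈ R, g = a * w * b * r)}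
  have hXmul : ∀ g h, g ∈ X → h ∈ X → g * h ∈ X := by
    intro g h hg hh
    rcases hg with ⟨a, ha, r, hr, rfl⟩ | ⟨a, ha, b, hb, r, hr, rfl⟩
    · rcases hh with ⟨a', ha', r', hr', rfl⟩ | ⟨a', ha', b', hb', r', hr', rfl⟩
      · exact Or.inl ⟨a * (r * a' * r⁻¹), mul_mem ha (hRP r hr a' ha'), r * r', mul_mem hr hr', by group⟩
      · refine Or.inr ⟨a * (r * a' * r⁻¹), mul_mem ha (hRP r hr a' ha'), (w * r * w) * b' * (w * r * w)⁻¹,
          hRP _ (hwR r hr) b' hb', (w * r * w) * r', mul_mem (hwR r hr) hr', ?_⟩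
        calc a * r * (a' * w * b' * r') = a * (r * a' * r⁻¹) * (r * w) * b' * r' := by group
          _ = a * (r * a' * r⁻¹) * ((w * w) * r * w) * b' * r' := by rw [hw2, one_mul]
          _ = _ := by group
    · rcases hh with ⟨a', ha', r', hr', rfl⟩ | ⟨a', ha', b', hb', r', hr', rfl⟩
      · exact Or.inr ⟨a, ha, b * (r * a' * r⁻¹), mul_mem hb (hRP r hr a' ha'), r * r', mul_mem hr hr', by group⟩
      · set c := b * (r * a' * r⁻¹) with hcdef
        set s := w * r * w with hs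
        have hsR : s ∈ R := hwR r hr
        have hrw : r * w = w * s := by rw [hs, ← mul_assoc, ← mul_assoc, hw2, one_mul]
        have e1 : a * w * b * r * (a' * w * b' * r') = a * (w * c * w) * (s * b' * s⁻¹) * (s * r') := by
          calc a * w * b * r * (a' * w * b' * r') = a * w * c * (r * w) * b' * r' := by rw [hcdef]; group
            _ = a * w * c * (w * s) * b' * r' := by rw [hrw]
            _ = _ := by group
        rw [e1]
        by_cases hc1 : c = 1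
        · refine Or.inl ⟨a * (s * b' * s⁻¹), mul_mem ha (hRP s hsR b' hb'), s * r', mul_mem hsR hr', ?_⟩
          rw [hc1, mul_one, hw2, mul_one]
        · obtain ⟨a₁, ha₁, b₁, hb₁, r₁, hr₁, he⟩ := key c (mul_mem hb (hRP r hr a' ha')) hc1
          set d := s * b' * s⁻¹
          refine Or.inr ⟨a * a₁, mul_mem ha ha₁, b₁ * (r₁ * d * r₁⁻¹),
            mul_mem hb₁ (hRP r₁ hr₁ d (hRP s hsR b' hb')), r₁ * (s * r'), mul_mem hr₁ (mul_mem hsR hr'), ?_⟩
          rw [he]; group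
  have hX1 : (1 : G) ∈ X := Or.inl ⟨1, one_mem _, 1, one_mem _, (mul_one 1).symm⟩
  have hXinv : ∀ g ∈ X, g⁻¹ ∈ X := by
    intro g hg
    obtain ⟨n, hn⟩ : ∃ n : ℕ, g⁻¹ = g ^ n := ⟨orderOf g - 1, by
      rw [inv_eq_iff_mul_eq_one, ← pow_succ', Nat.sub_add_cancel (orderOf_pos g), pow_orderOf_eq_one]⟩
    rw [hn]
    clear hn
    induction n with
    | zero => simpa using hX1
    | succ n ih => rw [pow_succ]; exact hXmul _ _ ih hg
  let H : Subgroup G :=
    { carrier := X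
      one_mem' := hX1
      mul_mem' := fun hg hh => hXmul _ _ hg hh
      inv_mem' := fun hg => hXinv _ hg }
  have hwM : ∀ a ∈ (P : Subgroup G), ∀ r ∈ R, w ≠ a * r := by
    intro a ha r hr h
    have h1 : a ∈ C[t] := by
      rw [show a = w * r⁻¹ by rw [h, mul_inv_cancel_right]]
      exact mul_mem hwC (inv_mem (hRC hr))
    have h2 := hinv a ha
    rw [← (mem_cent hG).1 h1, mul_inv_cancel_right] at h2
    have d1 : orderOf a ∣ 2 := orderOf_dvd_of_pow_eq_one (by rw [sq]; nth_rewrite 2 [h2]; exact mul_inv_cancel a)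
    have d2 : orderOf a ∣ 9 := hP ▸ Subgroup.orderOf_dvd_natCard _ ha
    have h3 := orderOf_eq_one_iff.1 (Nat.eq_one_of_dvd_coprimes (by norm_num : Nat.Coprime 2 9) d1 d2)
    rw [h3, one_mul] at h
    exact hwt (huniq w (h ▸ hr) hw)
  have hinPR : ∀ c ∈ (P : Subgroup G), (∃ b ∈ (P : Subgroup G), ∃ r ∈ R, w * c * w = b * r) → c = 1 := by
    intro c hc ⟨b₀, hb₀, r₀, hr₀, h⟩
    by_contra hc1
    obtain ⟨a, ha, b, hb, r, hr, he⟩ := key c hc hc1
    set s := r₀ * r⁻¹ with hs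
    refine hwM (a⁻¹ * b₀ * (s * b⁻¹ * s⁻¹)) (mul_mem (mul_mem (inv_mem ha) hb₀)
      (hRP s (mul_mem hr₀ (inv_mem hr)) _ (inv_mem hb))) s (mul_mem hr₀ (inv_mem hr)) ?_
    have e : b₀ * r₀ = a * w * b * r := h.symm.trans he
    calc w = a⁻¹ * (a * w * b * r) * r⁻¹ * b⁻¹ := by group
      _ = a⁻¹ * (b₀ * r₀) * r⁻¹ * b⁻¹ := by rw [e]
      _ = _ := by rw [hs]; group
  let F : (↥(P : Subgroup G) × R) ⊕ (↥(P : Subgroup G) × ↥(P : Subgroup G) × R) → H := Sum.elim
    (fun p => ⟨(p.1 : G) * p.2, Or.inl ⟨p.1, p.1.2, p.2, p.2.2, rfl⟩⟩)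
    (fun p => ⟨(p.1 : G) * w * p.2.1 * p.2.2, Or.inr ⟨p.1, p.1.2, p.2.1, p.2.1.2, p.2.2, p.2.2.2, rfl⟩⟩)
  have hPRu : ∀ (a a' : ↥(P : Subgroup G)) (r r' : R), (a : G) * r = a' * r' → a = a' ∧ r = r' := by
    intro a a' r r' h
    have hm : (a' : G)⁻¹ * a = r' * (r : G)⁻¹ := by
      rw [inv_mul_eq_iff_eq_mul, ← mul_assoc, ← h, mul_inv_cancel_right]
    have h1 := hPR _ (mul_mem (inv_mem a'.2) a.2) (hm ▸ mul_mem r'.2 (inv_mem r.2))
    rw [inv_mul_eq_one] at h1
    have e : a' = a := Subtype.ext h1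
    subst e
    exact ⟨rfl, Subtype.ext (mul_left_cancel h)⟩
  have hmix : ∀ (a a' b : ↥(P : Subgroup G)) (r r' : R), (a' : G) * r' ≠ (a : G) * w * b * r := by
    intro a a' b r r' h
    set s := (r' : G) * (r : G)⁻¹ with hs
    refine hwM ((a : G)⁻¹ * a' * (s * (b : G)⁻¹ * s⁻¹)) (mul_mem (mul_mem (inv_mem a.2) a'.2)
      (hRP s (mul_mem r'.2 (inv_mem r.2)) _ (inv_mem b.2))) s (mul_mem r'.2 (inv_mem r.2)) ?_
    calc w = (a : G)⁻¹ * ((a : G) * w * b * r) * (r : G)⁻¹ * (b : G)⁻¹ := by group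
      _ = (a : G)⁻¹ * ((a' : G) * r') * (r : G)⁻¹ * (b : G)⁻¹ := by rw [h]
      _ = _ := by rw [hs]; group
  have hFinj : Function.Injective F := by
    rintro (⟨a, r⟩ | ⟨a, b, r⟩) (⟨a', r'⟩ | ⟨a', b', r'⟩) h
    · obtain ⟨rfl, rfl⟩ := hPRu a a' r r' (congrArg Subtype.val h)
      rfl
    · exact absurd (congrArg Subtype.val h) (hmix a' a b' r' r)
    · exact absurd (congrArg Subtype.val h).symm (hmix a a' b r r')
    · have h' : (a : G) * w * b * r = a' * w * b' * r' := congrArg Subtype.val h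
      set s := (r' : G) * (r : G)⁻¹ with hs
      have h1 : (a' : G)⁻¹ * a = 1 := by
        refine hinPR _ (mul_mem (inv_mem a'.2) a.2) ⟨(b' : G) * (s * (b : G)⁻¹ * s⁻¹),
          mul_mem b'.2 (hRP s (mul_mem r'.2 (inv_mem r.2)) _ (inv_mem b.2)), s, mul_mem r'.2 (inv_mem r.2), ?_⟩
        calc w * ((a' : G)⁻¹ * a) * w = w * (a' : G)⁻¹ * ((a : G) * w * b * r) * (r : G)⁻¹ * (b : G)⁻¹ := by group
          _ = w * (a' : G)⁻¹ * ((a' : G) * w * b' * r') * (r : G)⁻¹ * (b : G)⁻¹ := by rw [h']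
          _ = (w * w) * b' * r' * (r : G)⁻¹ * (b : G)⁻¹ := by group
          _ = _ := by rw [hw2, hs]; group
      rw [inv_mul_eq_one] at h1
      have e : a' = a := Subtype.ext h1
      subst e
      obtain ⟨rfl, rfl⟩ := hPRu b b' r r' (mul_left_cancel (a := (a' : G) * w) (by rw [← mul_assoc, ← mul_assoc]; exact h'))
      rfl
  have hFsurj : Function.Surjective F := by
    rintro ⟨g, ⟨a, ha, r, hr, rfl⟩ | ⟨a, ha, b, hb, r, hr, rfl⟩⟩
    · exact ⟨Sum.inl (⟨a, ha⟩, ⟨r, hr⟩), rfl⟩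
    · exact ⟨Sum.inr (⟨a, ha⟩, ⟨b, hb⟩, ⟨r, hr⟩), rfl⟩
  refine ⟨H, ?_⟩
  have := Subgroup.card_mul_index H
  rw [← Nat.card_eq_of_bijective F ⟨hFinj, hFsurj⟩, Nat.card_sum, Nat.card_prod, Nat.card_prod, Nat.card_prod,
    hP, hR8, hG] at this
  omega

end Cfsg.Agent.LeadWork.M11Uniq
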