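import Cfsg.Agent.LeadWork.M11Uniq.Local

/-!
A simple group of order 7920 has a subgroup of index 11.
-/

set_option autoImplicit false
set_option linter.unusedSectionVars false
set_option linter.style.haveILetI false
set_option linter.unusedSimpArgs false
set_option linter.deprecated false

namespace Cfsg.Agent.LeadWork.M11Uniq

universe u

variable {G : Type u} [Group G] [Fintype G] [IsSimpleGroup G]
variable (hG : Nat.card G = 7920)
include hG

local notation "C[" t "]" => Subgroup.centralizer ({t} : Set G)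

theorem cent_three {e t q : G} (he : orderOf e = 3) (ht : orderOf t = 2) (het : e ∈ C[t]) (hqe : q ∈ C[e])
    (hqt : q ∈ C[t]) (hq : q ^ 16 = 1) : q = 1 ∨ q = t := by
  have hd : orderOf q ∣ 2 := by
    have h18 : orderOf q ∣ 18 := (three_data hG he).1 ▸ Subgroup.orderOf_dvd_natCard _ hqe
    simpa using Nat.dvd_gcd (orderOf_dvd_iff_pow_eq_one.2 hq) h18
  rcases (Nat.dvd_prime Nat.prime_two).1 hd with h | h
  · exact Or.inl (orderOf_eq_one_iff.1 h)
  · by_contra hcon
    push Not at hcon
    exact no_four_three hG he h ht hcon.2 (Subgroup.mem_centralizer_singleton_iff.1 hqt) hqe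
      (Subgroup.mem_centralizer_singleton_iff.2 (Subgroup.mem_centralizer_singleton_iff.1 het).symm)

theorem fixed_count {e t : G} (he : orderOf e = 3) (ht : orderOf t = 2) (het : e ∈ C[t]) (R : Subgroup G)
    (hR : R ≤ C[t]) (hR16 : Nat.card R ∣ 16) (hn : ∀ r ∈ R, e * r * e⁻¹ ∈ R) :
    (t ∈ R → Nat.card R % 3 = 2) ∧ (t ∉ R → Nat.card R % 3 = 1) := by
  classical
  haveI : Fact (Nat.Prime 3) := ⟨Nat.prime_three⟩
  let f : Function.End R := fun y => ⟨e * y * e⁻¹, hn y y.2⟩
  have hpow : ∀ (n : ℕ) (y : R), (((f ^ n) y : R) : G) = e ^ n * y * (e ^ n)⁻¹ := by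
    intro n
    induction n with
    | zero => intro y; simp only [pow_zero, one_mul, inv_one, mul_one]; rfl
    | succ n ih =>
      intro y
      rw [pow_succ']
      show e * ((f ^ n) y : G) * e⁻¹ = _
      rw [ih y]
      group
  have hf : f ^ 3 ^ 1 = 1 := by
    funext y
    apply Subtype.ext
    rw [hpow, pow_one, ← he, pow_orderOf_eq_one]
    simp only [one_mul, inv_one, mul_one]
    rfl
  have h := Equiv.Perm.card_fixedPoints_modEq hf
  rw [← Nat.card_eq_fintype_card, ← Nat.card_eq_fintype_card] at h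
  have hfix : ∀ y : R, y ∈ f.fixedPoints ↔ ((y : G) = 1 ∨ (y : G) = t) := by
    intro y
    constructor
    · intro hy
      have e1 : e * (y : G) * e⁻¹ = y := congrArg Subtype.val hy
      refine cent_three hG he ht het (Subgroup.mem_centralizer_singleton_iff.2 ?_) (hR y.2)
        (orderOf_dvd_iff_pow_eq_one.1 ((Subgroup.orderOf_dvd_natCard _ y.2).trans hR16))
      exact (mul_inv_eq_iff_eq_mul.1 e1).symm
    · intro hy
      apply Subtype.ext
      show e * (y : G) * e⁻¹ = y
      rcases hy with hy | hy <;> rw [hy]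
      · simp
      · rw [Subgroup.mem_centralizer_singleton_iff.1 het, mul_inv_cancel_right]
  constructor
  · intro htR
    have : Nat.card f.fixedPoints = 2 := by
      rw [Nat.card_coe_set_eq, Set.ncard_eq_two]
      refine ⟨1, ⟨t, htR⟩, fun hh => ne_one_of_orderOf_two ht (congrArg Subtype.val hh).symm, Set.ext fun y => ?_⟩
      rw [hfix]
      constructor
      · rintro (h' | h')
        · exact Or.inl (Subtype.ext h')
        · exact Or.inr (Subtype.ext h')
      · rintro (rfl | rfl)
        · exact Or.inl rfl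
        · exact Or.inr rfl
    rw [this] at h
    exact h
  · intro htR
    have : Nat.card f.fixedPoints = 1 := by
      rw [Nat.card_coe_set_eq, Set.ncard_eq_one]
      refine ⟨1, Set.ext fun y => ?_⟩
      rw [hfix]
      constructor
      · rintro (h' | h')
        · exact Subtype.ext h'
        · exact absurd (h' ▸ y.2) htR
      · rintro rfl; exact Or.inl rfl
    rw [this] at h
    exact h

set_option maxHeartbeats 2000000 in
/-- The normal quaternion subgroup of an involution centraliser. -/
theorem exists_core {t : G} (ht : orderOf t = 2) (P : Sylow 3 G)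
    (hinv : ∀ a ∈ (P : Subgroup G), t * a * t⁻¹ = a⁻¹) :
    ∃ R : Subgroup G, Nat.card R = 8 ∧ R ≤ C[t] ∧ t ∈ R ∧ (∀ c ∈ C[t], ∀ r ∈ R, c * r * c⁻¹ ∈ R) ∧
      (∀ r ∈ R, ∀ a ∈ (P : Subgroup G), r * a * r⁻¹ ∈ (P : Subgroup G)) ∧
      (∀ r ∈ R, orderOf r = 2 → r = t) ∧
      (∀ r ∈ R, r ≠ 1 → ∀ a ∈ (P : Subgroup G), r * a = a * r → a = 1) := by
  classical
  haveI : Fact (Nat.Prime 3) := ⟨Nat.prime_three⟩
  obtain ⟨hP, hPc, hCP, hN, h9⟩ := sylow_three hG P
  set N := Subgroup.normalizer ((P : Subgroup G) : Set G) with hNdef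
  set C := C[t] with hCdef
  have hC := card_involution hG ht
  have ht2 := mul_self_of_orderOf_two ht
  have htC : t ∈ C := Subgroup.mem_centralizer_singleton_iff.2 rfl
  have htN : t ∈ N := by
    rw [hNdef, Subgroup.mem_normalizer_iff]
    intro a
    refine ⟨fun ha => by rw [hinv a ha]; exact inv_mem ha, fun ha => ?_⟩
    have h := hinv _ ha
    have e : a = t * (t * a * t⁻¹) * t⁻¹ := by
      calc a = (t * t) * a * (t * t)⁻¹ := by rw [ht2]; group
        _ = _ := by group
    rw [e, h]
    exact inv_mem ha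
  set K := N ⊓ C with hKdef
  have hfixP : ∀ a ∈ (P : Subgroup G), a * t = t * a → a = 1 := fun a ha hc => by
    have h1 := hinv a ha
    rw [← hc, mul_inv_cancel_right] at h1
    have h2 : orderOf a ∣ 2 := orderOf_dvd_of_pow_eq_one (by rw [sq]; nth_rewrite 2 [h1]; exact mul_inv_cancel a)
    have h3 : orderOf a ∣ 9 := hP ▸ Subgroup.orderOf_dvd_natCard _ ha
    exact orderOf_eq_one_iff.1 (Nat.eq_one_of_dvd_coprimes (by norm_num : Nat.Coprime 2 9) h2 h3)
  have hK : Nat.card K = 16 := by
    have hbij : Function.Bijective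
        (fun p : ↥(P : Subgroup G) × K => (⟨(p.1 : G) * p.2, mul_mem (Subgroup.le_normalizer p.1.2) p.2.2.1⟩ : N)) := by
      constructor
      · rintro ⟨a, k⟩ ⟨a', k'⟩ h
        have h' : (a : G) * k = a' * k' := congrArg Subtype.val h
        have hm : (a' : G)⁻¹ * a = k' * (k : G)⁻¹ := by
          rw [inv_mul_eq_iff_eq_mul, ← mul_assoc, ← h', mul_inv_cancel_right]
        have h1 := hfixP _ (mul_mem (inv_mem a'.2) a.2) (Subgroup.mem_centralizer_singleton_iff.1
          (hm ▸ mul_mem k'.2.2 (inv_mem k.2.2)))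
        rw [inv_mul_eq_one] at h1
        obtain rfl : a' = a := Subtype.ext h1
        obtain rfl : k = k' := Subtype.ext (mul_left_cancel h')
        rfl
      · rintro ⟨g, hg⟩
        -- both `t` and its conjugate invert `P`
        have hg' : ∀ a ∈ (P : Subgroup G), (g * t * g⁻¹) * a * (g * t * g⁻¹)⁻¹ = a⁻¹ := fun a ha => by
          have hm : g⁻¹ * a * g ∈ (P : Subgroup G) := (Subgroup.mem_normalizer_iff''.1 hg a).1 ha
          calc g * t * g⁻¹ * a * (g * t * g⁻¹)⁻¹ = g * (t * (g⁻¹ * a * g) * t⁻¹) * g⁻¹ := by group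
            _ = a⁻¹ := by rw [hinv _ hm]; group
        have he := mul_centralises hinv hg'
        rw [hCP] at he
        set e := g * t * g⁻¹ * t⁻¹ with hedef
        have hge : g * t * g⁻¹ = e * t := by rw [hedef, inv_mul_cancel_right]
        set a := e ^ 5 with hadef
        have ha : a ∈ (P : Subgroup G) := pow_mem he 5
        have hat : a * t * a⁻¹ = e * t := by
          have h1 : t * a⁻¹ = a * t := by
            have h := hinv a⁻¹ (inv_mem ha)
            rw [inv_inv] at h
            rw [← mul_inv_eq_iff_eq_mul]; exact h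
          rw [mul_assoc, h1, ← mul_assoc, hadef, ← pow_add, show 5 + 5 = 9 + 1 by norm_num, pow_succ, h9 e he, one_mul]
        have hgN : a⁻¹ * g ∈ N := N.mul_mem (N.inv_mem (Subgroup.le_normalizer ha)) hg
        refine ⟨⟨⟨a, ha⟩, ⟨a⁻¹ * g, hgN,
          Subgroup.mem_centralizer_singleton_iff.2 ?_⟩⟩, Subtype.ext (mul_inv_cancel_left a g)⟩
        calc a⁻¹ * g * t = a⁻¹ * (g * t * g⁻¹) * g := by group
          _ = a⁻¹ * (a * t * a⁻¹) * g := by rw [hge, hat]
          _ = t * (a⁻¹ * g) := by group
    have := Nat.card_eq_of_bijective _ hbij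
    rw [Nat.card_prod, hP, hN] at this
    omega
  set K' := K.subgroupOf C
  have hK' : Nat.card K' = 16 := by
    rw [Nat.card_congr (Subgroup.subgroupOfEquivOfLe inf_le_right).toEquiv, hK]
  have hi3 : K'.index = 3 := by
    have := Subgroup.card_mul_index K'
    rw [hK', hC] at this
    omega
  set R := K'.normalCore.map C.subtype with hRdef
  have hcardR : Nat.card R * K'.normalCore.index = 48 := by
    rw [hRdef, Subgroup.card_map_of_injective C.subtype_injective, Subgroup.card_mul_index, hC]
  have hi6 : K'.normalCore.index ∣ 6 := by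
    rw [Subgroup.normalCore_eq_ker, Subgroup.index_ker]
    refine (Subgroup.card_subgroup_dvd_card _).trans (dvd_of_eq ?_)
    rw [Nat.card_perm, ← Subgroup.index_eq_card, hi3]
    rfl
  have hi3' : 3 ∣ K'.normalCore.index := hi3 ▸ Subgroup.index_dvd_of_le (Subgroup.normalCore_le K')
  have hRC : R ≤ C := Subgroup.map_subtype_le _
  have hRK : R ≤ K := by
    rintro x ⟨y, hy, rfl⟩
    exact Subgroup.normalCore_le K' hy
  have hRn : ∀ c ∈ C, ∀ r ∈ R, c * r * c⁻¹ ∈ R := by
    rintro c hc r ⟨y, hy, rfl⟩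
    exact ⟨⟨c, hc⟩ * y * ⟨c, hc⟩⁻¹, (Subgroup.normalCore_normal K').conj_mem y hy _, rfl⟩
  obtain ⟨e₁, he₁⟩ := exists_prime_orderOf_dvd_card' (G := C) 3 (by rw [hC]; norm_num)
  set e : G := e₁.1 with hedef
  have he : orderOf e = 3 := by rw [hedef, Subgroup.orderOf_coe]; exact he₁
  have heC : e ∈ C := e₁.2
  obtain ⟨hf1, hf2⟩ := fixed_count hG he ht heC R hRC
    (by have := Subgroup.card_dvd_of_le hRK; rwa [hK] at this) fun r hr => hRn e heC r hr
  have h6 : K'.normalCore.index = 6 := by
    have h0 : K'.normalCore.index = 3 ∨ K'.normalCore.index = 6 := by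
      obtain ⟨k, hk⟩ := hi3'
      have := Nat.le_of_dvd (by norm_num) hi6
      have : K'.normalCore.index ≠ 0 := fun h => by rw [h] at hi6; norm_num at hi6
      omega
    refine h0.resolve_left fun h => ?_
    rw [h] at hcardR
    have h16 : Nat.card R = 16 := by omega
    have htR : t ∈ R := by
      rw [Subgroup.eq_of_le_of_card_ge hRK (by rw [hK, h16])]
      exact ⟨htN, htC⟩
    have := hf1 htR
    omega
  have hR8 : Nat.card R = 8 := by rw [h6] at hcardR; omega
  have htR : t ∈ R := by
    by_contra h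
    have := hf2 h
    omega
  have hRP : ∀ r ∈ R, ∀ a ∈ (P : Subgroup G), r * a * r⁻¹ ∈ (P : Subgroup G) := fun r hr a ha =>
    (Subgroup.mem_normalizer_iff.1 (hRK hr).1 a).1 ha
  have huniq : ∀ r ∈ R, orderOf r = 2 → r = t := by
    intro u huR hu
    by_contra hut
    have hu2 := mul_self_of_orderOf_two hu
    have hui := inv_eq_self_of_orderOf_two hu
    have hct : ∀ r ∈ R, r * t = t * r := fun r hr => Subgroup.mem_centralizer_singleton_iff.1 (hRC hr)
    -- `u` centralises an element of order three of `P`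
    obtain ⟨e0, he0P, he0, he0u⟩ : ∃ e0 ∈ (P : Subgroup G), orderOf e0 = 3 ∧ u * e0 = e0 * u := by
      obtain ⟨a, haP, ha⟩ : ∃ a ∈ (P : Subgroup G), u * a * u⁻¹ ≠ a⁻¹ := by
        by_contra hcon
        push Not at hcon
        have h := mul_centralises hinv hcon
        rw [hCP] at h
        have hm : orderOf (u * t⁻¹) = 2 := by
          rw [inv_eq_self_of_orderOf_two ht]
          exact mul_of_commuting_involutions hu ht hut (hct u huR)
        have := Subgroup.orderOf_dvd_natCard _ h
        rw [hm, hP] at this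
        norm_num at this
      set b := a * (u * a * u⁻¹) with hb
      have hbP : b ∈ (P : Subgroup G) := mul_mem haP (hRP u huR a haP)
      have hb1 : b ≠ 1 := fun h => ha (eq_inv_of_mul_eq_one_right h)
      have hub : u * b = b * u := by
        refine mul_inv_eq_iff_eq_mul.1 ?_
        calc u * b * u⁻¹ = (u * a * u⁻¹) * ((u * u) * a * (u * u)⁻¹) := by rw [hb]; group
          _ = b := by rw [hu2, inv_one, one_mul, mul_one, hPc _ (hRP u huR a haP) a haP]
      by_cases h3 : b ^ 3 = 1
      · exact ⟨b, hbP, orderOf_three_of_pow h3 hb1, hub⟩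
      · exact ⟨b ^ 3, pow_mem hbP 3, orderOf_three_of_pow (by rw [← pow_mul]; exact h9 b hbP) h3,
          (Commute.pow_right hub 3).eq⟩
    set A := (P : Subgroup G) ⊓ C[u]
    have he0A : e0 ∈ A := ⟨he0P, Subgroup.mem_centralizer_singleton_iff.2 he0u.symm⟩
    have hA3 : Nat.card A = 3 := by
      have hd : Nat.card A ∣ 3 ^ 2 := by rw [show (3 : ℕ) ^ 2 = 9 by norm_num, ← hP]; exact Subgroup.card_dvd_of_le inf_le_left
      obtain ⟨j, hj, hj'⟩ := (Nat.dvd_prime_pow Nat.prime_three).1 hd
      interval_cases j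
      · have := he0 ▸ Subgroup.orderOf_dvd_natCard _ he0A
        rw [hj'] at this
        norm_num at this
      · exact hj'
      · exfalso
        have hAP : A = (P : Subgroup G) := Subgroup.eq_of_le_of_card_ge inf_le_left (by rw [hP, hj']; norm_num)
        have : u ∈ Subgroup.centralizer ((P : Subgroup G) : Set G) := Subgroup.mem_centralizer_iff.2 fun x hx =>
          Subgroup.mem_centralizer_singleton_iff.1 (show x ∈ A by rw [hAP]; exact hx).2
        rw [hCP] at this
        have := Subgroup.orderOf_dvd_natCard _ this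
        rw [hu, hP] at this
        norm_num at this
    have hAz : Subgroup.zpowers e0 = A := Subgroup.eq_of_le_of_card_ge (Subgroup.zpowers_le.2 he0A)
      (by rw [hA3, Nat.card_zpowers, he0])
    set D := R ⊓ C[u] with hD
    have huD : u ∈ D := ⟨huR, Subgroup.mem_centralizer_singleton_iff.2 rfl⟩
    have htD : t ∈ D := ⟨htR, Subgroup.mem_centralizer_singleton_iff.2 (hct u huR).symm⟩
    have hD4 : Nat.card D = 4 := by
      have h4 := four_dvd_of_involutions hu ht hut (hct u huR) huD htD
      have hd : Nat.card D ∣ 8 := hR8 ▸ Subgroup.card_dvd_of_le inf_le_left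
      have hle := Nat.le_of_dvd (by norm_num) hd
      by_contra hne
      have h8 : Nat.card D = 8 := by
        obtain ⟨c, hc⟩ := h4
        have hc0 : c ≠ 0 := fun h => (Nat.card_pos (α := D)).ne' (by rw [hc, h])
        omega
      -- the kernel on the fixed subgroup is too large
      have hk : ∀ k ∈ D, k * e0 * k⁻¹ = e0 ∨ k * e0 * k⁻¹ = e0⁻¹ := fun k hk => by
        have hm : k * e0 * k⁻¹ ∈ A := by
          refine ⟨hRP k hk.1 e0 he0P, Subgroup.mem_centralizer_singleton_iff.2 ?_⟩
          have h1 := Subgroup.mem_centralizer_singleton_iff.1 hk.2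
          calc k * e0 * k⁻¹ * u = k * e0 * (k⁻¹ * (u * k)) * k⁻¹ := by group
            _ = k * (e0 * u) * k⁻¹ := by rw [← h1]; group
            _ = (k * u) * e0 * k⁻¹ := by rw [← he0u]; group
            _ = u * (k * e0 * k⁻¹) := by rw [h1]; group
        rw [← hAz] at hm
        obtain ⟨i, hi⟩ := Subgroup.mem_zpowers_iff.1 hm
        have h3 : e0 ^ (3 : ℤ) = 1 := by
          have := pow_orderOf_eq_one e0
          rw [he0] at this
          exact_mod_cast this
        have hi' : e0 ^ i = e0 ^ (i % 3) := by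
          conv_lhs => rw [← Int.mul_ediv_add_emod i 3, zpow_add, zpow_mul, h3, one_zpow, one_mul]
        rcases (by omega : i % 3 = 0 ∨ i % 3 = 1 ∨ i % 3 = 2) with h | h | h
        · rw [hi', h, zpow_zero, eq_comm, conj_eq_one_iff] at hi
          rw [hi, orderOf_one] at he0
          omega
        · left; rw [← hi, hi', h, zpow_one]
        · right
          rw [← hi, hi', h, show (2 : ℤ) = 3 + -1 by norm_num, zpow_add, h3, one_mul, zpow_neg_one]
      have hmul : ∀ a ∈ D, ∀ b ∈ D, a * e0 * a⁻¹ = e0⁻¹ → b * e0 * b⁻¹ = e0⁻¹ → a⁻¹ * b ∈ C[e0] := by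
        intro a _ b _ h1 h2
        refine Subgroup.mem_centralizer_singleton_iff.2 ?_
        calc a⁻¹ * b * e0 = a⁻¹ * (b * e0 * b⁻¹) * b := by group
          _ = a⁻¹ * (a * e0 * a⁻¹) * b := by rw [h2, h1]
          _ = e0 * (a⁻¹ * b) := by group
      have htinv : t * e0 * t⁻¹ = e0⁻¹ := hinv e0 he0P
      let φ : D → (D ⊓ C[e0] : Subgroup G) × Fin 2 := fun k =>
        if h : (k : G) * e0 * (k : G)⁻¹ = e0 then (⟨k, k.2, Subgroup.mem_centralizer_singleton_iff.2
            (mul_inv_eq_iff_eq_mul.1 h)⟩, 0)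
        else (⟨t⁻¹ * k, D.mul_mem (D.inv_mem htD) k.2, hmul t htD k k.2 htinv ((hk k k.2).resolve_left h)⟩, 1)
      have hφ : Function.Injective φ := by
        intro a b h
        simp only [φ] at h
        split_ifs at h with h1 h2 h2
        · exact Subtype.ext (congrArg (fun p => ((p.1 : (D ⊓ C[e0] : Subgroup G)) : G)) h)
        · exact absurd (congrArg Prod.snd h) (by simp)
        · exact absurd (congrArg Prod.snd h) (by simp)
        · exact Subtype.ext (mul_left_cancel (congrArg (fun p => ((p.1 : (D ⊓ C[e0] : Subgroup G)) : G)) h))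
      have h8' := Nat.card_le_card_of_injective φ hφ
      rw [h8, Nat.card_prod, Nat.card_fin] at h8'
      have hd8 : Nat.card (D ⊓ C[e0] : Subgroup G) ∣ 8 := h8 ▸ Subgroup.card_dvd_of_le inf_le_left
      have hd18 : Nat.card (D ⊓ C[e0] : Subgroup G) ∣ 18 :=
        (three_data hG he0).1 ▸ Subgroup.card_dvd_of_le inf_le_right
      have h2le := Nat.le_of_dvd (by norm_num) (Nat.dvd_gcd hd8 hd18)
      rw [show Nat.gcd 8 18 = 2 by rfl] at h2le
      omega
    have hDmem : ∀ k ∈ D, k = 1 ∨ k = t ∨ k = u ∨ k = t * u := by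
      have hset : ({1, t, u, t * u} : Set G) = (D : Set G) := by
        refine Set.eq_of_subset_of_ncard_le ?_ ?_
        · rintro x (rfl | rfl | rfl | rfl)
          exacts [one_mem _, htD, huD, mul_mem htD huD]
        · rw [← Nat.card_coe_set_eq]
          change Nat.card D ≤ _
          rw [hD4]
          refine le_of_eq (Eq.symm ?_)
          rw [Set.ncard_eq_four]
          refine ⟨1, t, u, t * u, (ne_one_of_orderOf_two ht).symm, (ne_one_of_orderOf_two hu).symm,
            (ne_one_of_orderOf_two (mul_of_commuting_involutions ht hu (Ne.symm hut) (hct u huR).symm)).symm,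
            Ne.symm hut, ?_, ?_, rfl⟩
          · intro h
            exact ne_one_of_orderOf_two hu (mul_left_cancel (a := t) (by rw [← h, mul_one]))
          · intro h
            exact ne_one_of_orderOf_two ht (mul_right_cancel (b := u) (by rw [← h, one_mul]))
      intro k hk
      have : k ∈ ({1, t, u, t * u} : Set G) := by rw [hset]; exact hk
      simpa using this
    have hidx : (D.subgroupOf R).index = 2 := by
      have := Subgroup.card_mul_index (D.subgroupOf R)
      rw [Nat.card_congr (Subgroup.subgroupOfEquivOfLe inf_le_left).toEquiv, hD4, hR8] at this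
      omega
    -- the three conjugates under `e`
    set u' := e * u * e⁻¹ with hu'
    set u'' := e * u' * e⁻¹ with hu''
    have hu'R : u' ∈ R := hRn e heC u huR
    have hu''R : u'' ∈ R := hRn e heC u' hu'R
    have hu'2 : orderOf u' = 2 := by rw [hu', orderOf_conj, hu]
    have hu''2 : orderOf u'' = 2 := by rw [hu'', orderOf_conj, hu'2]
    have het := Subgroup.mem_centralizer_singleton_iff.1 heC
    have hett : e * t * e⁻¹ = t := by rw [het, mul_inv_cancel_right]
    have he3 : e * u'' * e⁻¹ = u := by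
      have h := pow_orderOf_eq_one e
      rw [he] at h
      calc e * u'' * e⁻¹ = e ^ 3 * u * (e ^ 3)⁻¹ := by simp [hu'', hu', pow_succ, mul_assoc]
        _ = u := by rw [h]; simp
    have hfix : u' ≠ u := fun h => by
      refine no_four_three hG he hu ht hut (hct u huR) (Subgroup.mem_centralizer_singleton_iff.2 ?_)
        (Subgroup.mem_centralizer_singleton_iff.2 het.symm)
      exact (mul_inv_eq_iff_eq_mul.1 h).symm
    have hfix' : u' ≠ t * u := fun h => by
      have h2 : u'' = u := by
        rw [hu'', h, ← conj_mul, hett, ← hu', h, ← mul_assoc, ht2, one_mul]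
      rw [h2] at he3
      exact hfix he3
    have hnt : ∀ x : G, e * x * e⁻¹ = t → x = t := fun x h => by
      calc x = e⁻¹ * (e * x * e⁻¹) * e := by group
        _ = e⁻¹ * (e * t * e⁻¹) * e := by rw [h, hett]
        _ = t := by group
    have hu'D : u' ∉ D := fun h => by
      rcases hDmem u' h with h' | h' | h' | h'
      · exact ne_one_of_orderOf_two hu'2 h'
      · exact hut (hnt u h')
      · exact hfix h'
      · exact hfix' h'
    have hu''D : u'' ∉ D := fun h => by
      rcases hDmem u'' h with h' | h' | h' | h'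
      · exact ne_one_of_orderOf_two hu''2 h'
      · exact hut (hnt u (hnt u' h'))
      · rw [h'] at he3; exact hfix he3
      · rw [h', ← conj_mul, hett, ← hu'] at he3
        refine hfix' ?_
        rw [← he3, ← mul_assoc, ht2, one_mul]
    have hd : u'' * u' ∈ D := by
      have := (Subgroup.mul_mem_iff_of_index_two hidx (a := (⟨u'', hu''R⟩ : R)) (b := ⟨u', hu'R⟩)).2
        (iff_of_false (fun h => hu''D (Subgroup.mem_subgroupOf.1 h)) fun h => hu'D (Subgroup.mem_subgroupOf.1 h))
      exact Subgroup.mem_subgroupOf.1 this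
    have hu'i := mul_self_of_orderOf_two hu'2
    have hcomm : ∀ d ∈ R, d * d = 1 → (d * u') * (d * u') = 1 → d * u' = u' * d := fun d _ h1 h2 => by
      calc d * u' = d * u' * ((d * u') * (d * u'))⁻¹ := by rw [h2]; group
        _ = u'⁻¹ * d⁻¹ := by group
        _ = u' * d := by rw [inv_eq_self_of_orderOf_two hu'2, inv_eq_of_mul_eq_one_right h1]
    have hu''eq : ∀ d : G, u'' * u' = d → u'' = d * u' := fun d h => by rw [← h, mul_assoc, hu'i, mul_one]
    have hu''i := mul_self_of_orderOf_two hu''2
    rcases hDmem _ hd with h | h | h | h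
    · have h1 : u'' = u' := by rw [hu''eq 1 h, one_mul]
      refine hfix ?_
      calc u' = e⁻¹ * (e * u' * e⁻¹) * e := by group
        _ = e⁻¹ * u' * e := by rw [← hu'', h1]
        _ = u := by rw [hu']; group
    · have h1 := hu''eq t h
      refine hfix' ?_
      have h2 : e * (t * u) * e⁻¹ = t * u' := by rw [← conj_mul, hett, ← hu']
      calc u' = e⁻¹ * (e * u' * e⁻¹) * e := by group
        _ = e⁻¹ * (e * (t * u) * e⁻¹) * e := by rw [← hu'', h1, h2]
        _ = t * u := by group
    · refine hu'D ⟨hu'R, Subgroup.mem_centralizer_singleton_iff.2 (hcomm u huR hu2 ?_).symm⟩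
      rw [← hu''eq u h, hu''i]
    · refine hu'D ⟨hu'R, Subgroup.mem_centralizer_singleton_iff.2 (hcomm u huR hu2 ?_).symm⟩
      have h1 := hu''eq _ h
      have h2 : u * u' = t * u'' := by
        rw [h1, show t * (t * u * u') = t * t * (u * u') by group, ht2, one_mul]
      rw [h2, show t * u'' * (t * u'') = t * (u'' * t) * u'' by group, hct u'' hu''R,
        show t * (t * u'') * u'' = t * t * (u'' * u'') by group, ht2, hu''i, one_mul]
  refine ⟨R, hR8, hRC, htR, hRn, hRP, huniq, fun r hr hr1 a ha hra => ?_⟩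
  obtain ⟨j, -, hj⟩ := (Nat.dvd_prime_pow Nat.prime_two).1
    (show orderOf r ∣ 2 ^ 3 from (Subgroup.orderOf_dvd_natCard _ hr).trans (dvd_of_eq (by rw [hR8]; norm_num)))
  obtain ⟨i, rfl⟩ : ∃ i, j = i + 1 :=
    ⟨j - 1, by rcases j with _ | j; · exact absurd (orderOf_eq_one_iff.1 (by simpa using hj)) hr1
               · rfl⟩
  have h2 : orderOf (r ^ 2 ^ i) = 2 := by
    rw [orderOf_pow' r (by positivity), hj, Nat.gcd_eq_right (Dvd.intro 2 (by ring)), pow_succ]
    simp
  have h3 := huniq _ (pow_mem hr _) h2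
  have h4 : r ^ 2 ^ i * a = a * r ^ 2 ^ i := (Commute.pow_left hra _).eq
  rw [h3] at h4
  exact hfixP a ha h4.symm

/-- The centraliser of two commuting involutions. -/
theorem four_inter {t u : G} (ht : orderOf t = 2) (hu : orderOf u = 2) (hut : u ≠ t) (hc : u * t = t * u) :
    ∀ x ∈ C[t] ⊓ C[u], x = 1 ∨ x = t ∨ x = u ∨ x = t * u := by
  classical
  haveI : Fact (Nat.Prime 3) := ⟨Nat.prime_three⟩
  set A := C[t] ⊓ C[u]
  have htA : t ∈ A := ⟨Subgroup.mem_centralizer_singleton_iff.2 rfl, Subgroup.mem_centralizer_singleton_iff.2 hc.symm⟩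
  have huA : u ∈ A := ⟨Subgroup.mem_centralizer_singleton_iff.2 hc, Subgroup.mem_centralizer_singleton_iff.2 rfl⟩
  have h16 : Nat.card A ∣ 16 := by
    have h48 : Nat.card A ∣ 16 * 3 := by
      rw [show 16 * 3 = 48 by norm_num, ← card_involution hG ht]
      exact Subgroup.card_dvd_of_le inf_le_left
    refine Nat.Coprime.dvd_of_dvd_mul_right ?_ h48
    refine ((Nat.prime_three.coprime_iff_not_dvd).2 fun h => ?_).symm
    obtain ⟨e, he⟩ := exists_prime_orderOf_dvd_card' (G := A) 3 h
    have he' : orderOf (e : G) = 3 := by rw [Subgroup.orderOf_coe]; exact he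
    exact no_four_three hG he' hu ht hut hc
      (Subgroup.mem_centralizer_singleton_iff.2 (Subgroup.mem_centralizer_singleton_iff.1 e.2.2).symm)
      (Subgroup.mem_centralizer_singleton_iff.2 (Subgroup.mem_centralizer_singleton_iff.1 e.2.1).symm)
  have half : ∀ {s : G}, orderOf s = 2 → A ≤ C[s] → ∃ S : Subgroup G, S ≤ A ∧ Nat.card A ≤ 2 * Nat.card S ∧
      ∀ r ∈ S, orderOf r = 2 → r = s := by
    intro s hs hAs
    obtain ⟨P, hP⟩ := exists_inverted hG hs
    obtain ⟨R, hR8, hRC, -, hRn, -, huniq, -⟩ := exists_core hG hs P hP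
    haveI hRnorm : (R.subgroupOf C[s]).Normal :=
      ⟨fun r hr c => Subgroup.mem_subgroupOf.2 (hRn c c.2 r (Subgroup.mem_subgroupOf.1 hr))⟩
    let φ := (QuotientGroup.mk' (R.subgroupOf C[s])).comp (Subgroup.inclusion hAs)
    have hrange : Nat.card φ.range ≤ 2 := by
      have h1 : Nat.card φ.range ∣ 16 := (Subgroup.card_range_dvd φ).trans h16
      have h2 : Nat.card φ.range ∣ 6 := by
        refine (Subgroup.card_subgroup_dvd_card _).trans (dvd_of_eq ?_)
        have := Subgroup.card_mul_index (R.subgroupOf C[s])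
        rw [Nat.card_congr (Subgroup.subgroupOfEquivOfLe hRC).toEquiv, hR8, card_involution hG hs] at this
        rw [← Subgroup.index_eq_card]
        omega
      exact Nat.le_of_dvd (by norm_num) (by simpa using Nat.dvd_gcd h1 h2)
    refine ⟨A ⊓ R, inf_le_left, ?_, fun r hr => huniq r hr.2⟩
    have hcard := Subgroup.card_mul_index φ.ker
    rw [Subgroup.index_ker] at hcard
    have hker : Nat.card φ.ker ≤ Nat.card (A ⊓ R : Subgroup G) := by
      refine Nat.card_le_card_of_injective (fun k => ⟨(k.1 : G), k.1.2, ?_⟩) ?_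
      · have := k.2
        rw [MonoidHom.mem_ker] at this
        have h1 : QuotientGroup.mk (s := R.subgroupOf C[s]) (Subgroup.inclusion hAs k.1) = 1 := this
        exact Subgroup.mem_subgroupOf.1 ((QuotientGroup.eq_one_iff (Subgroup.inclusion hAs k.1)).1 h1)
      · intro a b h
        exact Subtype.ext (Subtype.ext (congrArg (fun z : (A ⊓ R : Subgroup G) => (z : G)) h))
    calc Nat.card A = Nat.card φ.ker * Nat.card φ.range := hcard.symm
      _ ≤ Nat.card (A ⊓ R : Subgroup G) * 2 := Nat.mul_le_mul hker hrange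
      _ = _ := mul_comm _ _
  obtain ⟨S, hSA, hS, hSu⟩ := half ht inf_le_left
  obtain ⟨T, hTA, hT, hTu⟩ := half hu inf_le_right
  have hST : ∀ x ∈ S, x ∈ T → x = 1 := by
    intro x hxS hxT
    by_contra hx1
    obtain ⟨j, -, hj⟩ := (Nat.dvd_prime_pow Nat.prime_two).1
      (show orderOf x ∣ 2 ^ 4 from (Subgroup.orderOf_dvd_natCard _ (hSA hxS)).trans h16)
    obtain ⟨i, rfl⟩ : ∃ i, j = i + 1 :=
      ⟨j - 1, by rcases j with _ | j; · exact absurd (orderOf_eq_one_iff.1 (by simpa using hj)) hx1
                 · rfl⟩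
    have h2 : orderOf (x ^ 2 ^ i) = 2 := by
      rw [orderOf_pow' x (by positivity), hj, Nat.gcd_eq_right (Dvd.intro 2 (by ring)), pow_succ]
      simp
    exact hut ((hTu _ (pow_mem hxT _) h2).symm.trans (hSu _ (pow_mem hxS _) h2))
  have hinj : Nat.card S * Nat.card T ≤ Nat.card A := by
    rw [← Nat.card_prod]
    refine Nat.card_le_card_of_injective (fun p : S × T => (⟨(p.1 : G) * p.2, mul_mem (hSA p.1.2) (hTA p.2.2)⟩ : A)) ?_
    rintro ⟨a, k⟩ ⟨a', k'⟩ h
    have h' : (a : G) * k = a' * k' := congrArg Subtype.val h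
    have hm : (a' : G)⁻¹ * a = k' * (k : G)⁻¹ := by
      rw [inv_mul_eq_iff_eq_mul, ← mul_assoc, ← h', mul_inv_cancel_right]
    have h1 := hST _ (mul_mem (inv_mem a'.2) a.2) (hm ▸ mul_mem k'.2 (inv_mem k.2))
    rw [inv_mul_eq_one] at h1
    obtain rfl : a' = a := Subtype.ext h1
    obtain rfl : k = k' := Subtype.ext (mul_left_cancel h')
    rfl
  have hA4 : Nat.card A ≤ 4 := by
    have hp : 0 < Nat.card A := Nat.card_pos
    nlinarith [Nat.mul_le_mul hS hT]
  intro x hx
  have hset : ({1, t, u, t * u} : Set G) = (A : Set G) := by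
    refine Set.eq_of_subset_of_ncard_le ?_ ?_
    · rintro x (rfl | rfl | rfl | rfl)
      exacts [one_mem _, htA, huA, mul_mem htA huA]
    · rw [← Nat.card_coe_set_eq]
      refine le_trans hA4 (le_of_eq (Eq.symm ?_))
      rw [Set.ncard_eq_four]
      refine ⟨1, t, u, t * u, (ne_one_of_orderOf_two ht).symm, (ne_one_of_orderOf_two hu).symm,
        (ne_one_of_orderOf_two (mul_of_commuting_involutions ht hu hut.symm hc.symm)).symm, hut.symm, ?_, ?_, rfl⟩
      · intro h; exact ne_one_of_orderOf_two hu (mul_left_cancel (a := t) (by rw [← h, mul_one]))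
      · intro h; exact ne_one_of_orderOf_two ht (mul_right_cancel (b := u) (by rw [← h, one_mul]))
  have : x ∈ ({1, t, u, t * u} : Set G) := by rw [hset]; exact hx
  simpa using this

end Cfsg.Agent.LeadWork.M11Uniq
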