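import Cfsg.Agent.Chars.Order7920Sylow3

/-!
Involution centralisers and inverted Sylow 3-subgroups in a simple group of order 7920.
-/

set_option autoImplicit false
set_option linter.unusedSectionVars false
set_option linter.style.haveILetI false
set_option linter.unusedSimpArgs false
set_option linter.deprecated false

open Cfsg Cfsg.Agent Cfsg.Agent.Blocks
open scoped ComplexConjugate

namespace Cfsg.Agent.LeadWork.M11Uniq

universe u

section Generic

variable {G : Type u} [Group G] [Finite G]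

theorem inv_eq_self_of_orderOf_two {a : G} (ha : orderOf a = 2) : a⁻¹ = a := by
  rw [inv_eq_iff_mul_eq_one, ← sq, ← ha, pow_orderOf_eq_one]

theorem mul_self_of_orderOf_two {a : G} (ha : orderOf a = 2) : a * a = 1 := by
  rw [← sq, ← ha, pow_orderOf_eq_one]

theorem ne_one_of_orderOf_two {a : G} (ha : orderOf a = 2) : a ≠ 1 := fun h => by
  rw [h, orderOf_one] at ha
  omega

theorem orderOf_conj (g a : G) : orderOf (g * a * g⁻¹) = orderOf a :=
  MulEquiv.orderOf_eq (MulAut.conj g) a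

theorem orderOf_three_of_pow {a : G} (h : a ^ 3 = 1) (h1 : a ≠ 1) : orderOf a = 3 :=
  haveI : Fact (Nat.Prime 3) := ⟨Nat.prime_three⟩
  orderOf_eq_prime h h1

theorem orderOf_two_of_mul {a : G} (h : a * a = 1) (h1 : a ≠ 1) : orderOf a = 2 :=
  orderOf_eq_prime (by rw [sq, h]) h1

theorem mul_of_commuting_involutions {a b : G} (ha : orderOf a = 2) (hb : orderOf b = 2) (hab : a ≠ b)
    (hc : a * b = b * a) : orderOf (a * b) = 2 := by
  refine orderOf_two_of_mul ?_ fun h => hab ?_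
  · rw [show a * b * (a * b) = a * (b * a) * b by group, ← hc,
      show a * (a * b) * b = (a * a) * (b * b) by group, mul_self_of_orderOf_two ha,
      mul_self_of_orderOf_two hb, one_mul]
  · rw [eq_inv_of_mul_eq_one_left h, inv_eq_self_of_orderOf_two hb]

/-- Two distinct commuting involutions make the order divisible by four. -/
theorem four_dvd_of_involutions {H : Subgroup G} {a b : G} (ha : orderOf a = 2) (hb : orderOf b = 2)
    (hab : a ≠ b) (hc : a * b = b * a) (haH : a ∈ H) (hbH : b ∈ H) : 4 ∣ Nat.card H := by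
  have ha2 := mul_self_of_orderOf_two ha
  have hb2 := mul_self_of_orderOf_two hb
  have hc' : ∀ x : G, a * (b * x) = b * (a * x) := fun x => by rw [← mul_assoc, hc, mul_assoc]
  have hab1 := ne_one_of_orderOf_two (mul_of_commuting_involutions ha hb hab hc)
  let A : Subgroup G :=
    { carrier := {x | x = 1 ∨ x = a ∨ x = b ∨ x = a * b}
      one_mem' := Or.inl rfl
      mul_mem' := by
        intro x y hx hy
        rcases hx with rfl | rfl | rfl | rfl <;> rcases hy with rfl | rfl | rfl | rfl <;>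
          simp only [Set.mem_setOf_eq, one_mul, mul_one, ha2, hb2, hc, hc', mul_assoc, true_or, or_true] <;>
          simp [← mul_assoc, ha2, hb2]
      inv_mem' := by
        intro x hx
        rcases hx with rfl | rfl | rfl | rfl <;>
          simp [inv_eq_self_of_orderOf_two ha, inv_eq_self_of_orderOf_two hb,
            inv_eq_self_of_orderOf_two (mul_of_commuting_involutions ha hb hab hc)] }
  have hA : Nat.card A = 4 := by
    rw [show Nat.card A = Set.ncard {x : G | x = 1 ∨ x = a ∨ x = b ∨ x = a * b} from Nat.card_coe_set_eq _,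
      Set.ncard_eq_four.2]
    refine ⟨1, a, b, a * b, (ne_one_of_orderOf_two ha).symm, (ne_one_of_orderOf_two hb).symm, hab1.symm, hab,
      ?_, ?_, rfl⟩
    · intro h; exact ne_one_of_orderOf_two hb (mul_left_cancel (a := a) (by rw [← h, mul_one]))
    · intro h; exact ne_one_of_orderOf_two ha (mul_right_cancel (b := b) (by rw [← h, one_mul]))
  rw [← hA]
  refine Subgroup.card_dvd_of_le ?_
  rintro x (rfl | rfl | rfl | rfl)
  exacts [one_mem _, haH, hbH, mul_mem haH hbH]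

theorem commute_pow_of_inv {t p : G} (ht : t * p * t⁻¹ = p⁻¹) (n : ℕ) :
    t * p ^ n * t⁻¹ = (p ^ n)⁻¹ := by
  rw [← conj_pow, ht, inv_pow]

/-- Two involutions inverting the same abelian subgroup differ by one centralising it. -/
theorem mul_centralises {P : Subgroup G} {z z' : G} (hz : ∀ a ∈ P, z * a * z⁻¹ = a⁻¹)
    (hz' : ∀ a ∈ P, z' * a * z'⁻¹ = a⁻¹) : z' * z⁻¹ ∈ Subgroup.centralizer (P : Set G) := by
  refine Subgroup.mem_centralizer_iff.2 fun a ha => ?_
  have h1 : z⁻¹ * a * z = a⁻¹ := by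
    have h := hz a⁻¹ (inv_mem ha)
    rw [inv_inv] at h
    nth_rewrite 1 [← h]
    group
  have h2 := hz' a⁻¹ (inv_mem ha)
  rw [inv_inv] at h2
  calc a * (z' * z⁻¹) = (z' * a⁻¹ * z'⁻¹) * (z' * z⁻¹) := by rw [h2]
    _ = z' * (a⁻¹ * z⁻¹) := by group
    _ = z' * (z⁻¹ * a * z * z⁻¹) := by rw [h1]
    _ = z' * z⁻¹ * a := by group

end Generic

variable {G : Type u} [Group G] [Fintype G] [IsSimpleGroup G]
variable (hG : Nat.card G = 7920)
include hG

local notation "C[" t "]" => Subgroup.centralizer ({t} : Set G)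

theorem card_involution {t : G} (ht : orderOf t = 2) : Nat.card C[t] = 48 := by
  haveI : Fact (Nat.Prime 5) := ⟨by norm_num⟩
  haveI : Fact (Nat.Prime 11) := ⟨by norm_num⟩
  obtain ⟨L⟩ := Chars.Order7920.exists_labels hG
  exact (Chars.Order7920.involution hG L ht).1

theorem involutions_conj {t u : G} (ht : orderOf t = 2) (hu : orderOf u = 2) :
    ∃ g : G, g * t * g⁻¹ = u := by
  haveI : Fact (Nat.Prime 5) := ⟨by norm_num⟩
  haveI : Fact (Nat.Prime 11) := ⟨by norm_num⟩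
  obtain ⟨L⟩ := Chars.Order7920.exists_labels hG
  by_contra hcon
  have hnc : ¬ IsConj t u := fun h => hcon (isConj_iff.1 h)
  obtain ⟨-, ⟨tf, tθ, tθ'⟩, tabc, tr, ts, tq⟩ := Chars.Order7920.involution hG L ht
  obtain ⟨-, ⟨uf, uθ, uθ'⟩, uabc, ur, us, uq⟩ := Chars.Order7920.involution hG L hu
  have h := Chars.Order7920.Labels.column t u hnc
  rw [L.sum_eq] at h
  simp only [tf, tθ, tθ', tr, ts, tq, uf, uθ, uθ', ur, us, uq, coe_oneChar, map_one] at h
  rcases tabc with ⟨a1, a2, a3⟩ | ⟨a1, a2, a3⟩ | ⟨a1, a2, a3⟩ <;>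
    rcases uabc with ⟨b1, b2, b3⟩ | ⟨b1, b2, b3⟩ | ⟨b1, b2, b3⟩ <;>
    rw [a1, a2, a3, b1, b2, b3] at h <;> simp only [map_neg, map_ofNat, map_zero, map_one] at h <;>
    norm_num at h

theorem sylow_three (P : Sylow 3 G) : Nat.card (P : Subgroup G) = 9 ∧
    (∀ a ∈ (P : Subgroup G), ∀ b ∈ (P : Subgroup G), a * b = b * a) ∧
    Subgroup.centralizer ((P : Subgroup G) : Set G) = (P : Subgroup G) ∧
    Nat.card (Subgroup.normalizer ((P : Subgroup G) : Set G)) = 144 ∧
    (∀ a ∈ (P : Subgroup G), a ^ 9 = 1) := by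
  classical
  haveI : Fact (Nat.Prime 3) := ⟨Nat.prime_three⟩
  haveI : Fact (Nat.Prime 5) := ⟨by norm_num⟩
  haveI : Fact (Nat.Prime 11) := ⟨by norm_num⟩
  have hP := Chars.Order7920.card_sylow_three hG P
  have hN := Chars.Order7920.card_normalizer_three hG P
  have hPc : ∀ a ∈ (P : Subgroup G), ∀ b ∈ (P : Subgroup G), a * b = b * a := fun a ha b hb => by
    have h := IsPGroup.commutative_of_card_eq_prime_sq (p := 3) (G := (P : Subgroup G))
      (by rw [hP]; norm_num) ⟨a, ha⟩ ⟨b, hb⟩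
    exact congrArg Subtype.val h
  refine ⟨hP, hPc, ?_, hN, fun a ha => orderOf_dvd_iff_pow_eq_one.1 (hP ▸ Subgroup.orderOf_dvd_natCard _ ha)⟩
  set C := Subgroup.centralizer ((P : Subgroup G) : Set G) with hC
  have hPC : (P : Subgroup G) ≤ C := fun a ha => Subgroup.mem_centralizer_iff.2 fun b hb => hPc b hb a ha
  obtain ⟨c, hc⟩ : 9 ∣ Nat.card C := hP ▸ Subgroup.card_dvd_of_le hPC
  have hd : Nat.card C ∣ 144 := hN ▸ Subgroup.card_dvd_of_le (Subgroup.centralizer_le_normalizer _)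
  have h2 : ¬ 2 ∣ Nat.card C := fun h => by
    obtain ⟨s, hs⟩ := exists_prime_orderOf_dvd_card' (G := C) 2 h
    have h9 : 9 ∣ Nat.card C[(s : G)] :=
      hP ▸ Subgroup.card_dvd_of_le fun a ha => Subgroup.mem_centralizer_singleton_iff.2
        (Subgroup.mem_centralizer_iff.1 s.2 a ha)
    rw [card_involution hG (by rw [Subgroup.orderOf_coe]; exact hs)] at h9
    norm_num at h9
  have hc16 : c ∣ 16 := Nat.dvd_of_mul_dvd_mul_left (k := 9) (by norm_num) (hc ▸ hd)
  obtain ⟨k, -, rfl⟩ := (Nat.dvd_prime_pow Nat.prime_two).1 (show c ∣ 2 ^ 4 by norm_num [hc16])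
  rcases Nat.eq_zero_or_pos k with rfl | hk
  · exact (Subgroup.eq_of_le_of_card_ge hPC (by rw [hP, hc]; norm_num)).symm
  · exact absurd (hc ▸ (dvd_mul_of_dvd_right (dvd_pow_self 2 hk.ne') 9)) h2

/-- Every Sylow 3-subgroup is inverted by an involution. -/
theorem exists_inverter (P : Sylow 3 G) :
    ∃ z : G, orderOf z = 2 ∧ ∀ a ∈ (P : Subgroup G), z * a * z⁻¹ = a⁻¹ := by
  classical
  haveI : Fact (Nat.Prime 2) := ⟨Nat.prime_two⟩
  haveI : Fact (Nat.Prime 3) := ⟨Nat.prime_three⟩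
  obtain ⟨hP, hPc, hCP, hN, h9⟩ := sylow_three hG P
  set N := Subgroup.normalizer ((P : Subgroup G) : Set G) with hNdef
  let Q : Sylow 2 N := default
  have hQ : Nat.card (Q : Subgroup N) = 16 := by
    rw [Sylow.card_eq_multiplicity, hN]
    have h1 := (Nat.prime_two.pow_dvd_iff_le_factorization (n := 144) (k := 4) (by norm_num)).1 (by norm_num)
    have h2 : ¬ 5 ≤ (144 : ℕ).factorization 2 := fun h => by
      have := (Nat.prime_two.pow_dvd_iff_le_factorization (n := 144) (k := 5) (by norm_num)).2 h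
      norm_num at this
    rw [show (144 : ℕ).factorization 2 = 4 by omega]
    norm_num
  set K : Subgroup G := (Q : Subgroup N).map N.subtype with hKdef
  have hK : Nat.card K = 16 := by
    rw [hKdef, Subgroup.card_map_of_injective N.subtype_injective, hQ]
  have hKN : K ≤ N := Subgroup.map_subtype_le _
  haveI : Nontrivial K := Finite.one_lt_card_iff_nontrivial.1 (by rw [hK]; norm_num)
  haveI := (IsPGroup.of_card (p := 2) (n := 4) (G := K) (by rw [hK]; norm_num)).center_nontrivial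
  obtain ⟨⟨⟨z, hzK⟩, hzc⟩, hz1⟩ := exists_ne (1 : Subgroup.center K)
  -- an involution in the centre
  obtain ⟨z, hzK, hz, hzc⟩ : ∃ z ∈ K, orderOf z = 2 ∧ ∀ k ∈ K, z * k = k * z := by
    have hzc' : ∀ k ∈ K, z * k = k * z := fun k hk =>
      (congrArg Subtype.val (Subgroup.mem_center_iff.1 hzc ⟨k, hk⟩)).symm
    have hne : orderOf z ≠ 1 := fun h => hz1 (Subtype.ext (Subtype.ext (orderOf_eq_one_iff.1 h)))
    obtain ⟨j, -, hj⟩ := (Nat.dvd_prime_pow Nat.prime_two).1
      (show orderOf z ∣ 2 ^ 4 from (Subgroup.orderOf_dvd_natCard _ hzK).trans (dvd_of_eq (by rw [hK]; norm_num)))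
    obtain ⟨i, rfl⟩ : ∃ i, j = i + 1 := ⟨j - 1, by rcases j with _ | j <;> simp_all⟩
    refine ⟨z ^ 2 ^ i, pow_mem hzK _, ?_, fun k hk => (Commute.pow_left (hzc' k hk) _).eq⟩
    rw [orderOf_pow' z (by positivity), hj, Nat.gcd_eq_right (Dvd.intro 2 (by ring)), pow_succ]
    simp
  refine ⟨z, hz, ?_⟩
  have hz2 := mul_self_of_orderOf_two hz
  have hzi := inv_eq_self_of_orderOf_two hz
  have hzP : ∀ a ∈ (P : Subgroup G), z * a * z⁻¹ ∈ (P : Subgroup G) := fun a ha =>
    (Subgroup.mem_normalizer_iff.1 (hKN hzK) a).1 ha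
  by_contra hcon
  push Not at hcon
  obtain ⟨a, haP, ha⟩ := hcon
  -- a fixed element and an inverted one
  set e := a * (z * a * z⁻¹) with hedef
  have heP : e ∈ (P : Subgroup G) := mul_mem haP (hzP a haP)
  have he1 : e ≠ 1 := fun h => ha (eq_inv_of_mul_eq_one_right h)
  have hze : z * e = e * z := by
    have : z * e * z⁻¹ = e := by
      calc z * e * z⁻¹ = (z * a * z⁻¹) * ((z * z) * a * (z * z)⁻¹) := by rw [hedef]; group
        _ = e := by rw [hz2, inv_one, one_mul, mul_one, hPc _ (hzP a haP) a haP]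
    exact mul_inv_eq_iff_eq_mul.1 this
  obtain ⟨b, hbP, hb⟩ : ∃ b ∈ (P : Subgroup G), z * b ≠ b * z := by
    by_contra hcon'
    push Not at hcon'
    have : z ∈ Subgroup.centralizer ((P : Subgroup G) : Set G) :=
      Subgroup.mem_centralizer_iff.2 fun b hb => (hcon' b hb).symm
    rw [hCP] at this
    have := Subgroup.orderOf_dvd_natCard _ this
    rw [hz, hP] at this
    norm_num at this
  set f := b * (z * b * z⁻¹)⁻¹ with hfdef
  have hfP : f ∈ (P : Subgroup G) := mul_mem hbP (inv_mem (hzP b hbP))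
  have hf1 : f ≠ 1 := fun h => hb (by
    rw [hfdef, mul_inv_eq_one] at h
    exact (mul_inv_eq_iff_eq_mul.1 h.symm))
  -- the fixed and inverted subgroups
  let A : Subgroup G := (P : Subgroup G) ⊓ C[z]
  let B : Subgroup G :=
    { carrier := {c | c ∈ (P : Subgroup G) ∧ z * c * z⁻¹ = c⁻¹}
      one_mem' := ⟨one_mem _, by simp⟩
      mul_mem' := fun {c d} hc hd => ⟨mul_mem hc.1 hd.1, by
        rw [← conj_mul, hc.2, hd.2, mul_inv_rev, hPc _ (inv_mem hc.1) _ (inv_mem hd.1)]⟩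
      inv_mem' := fun {c} hc => ⟨inv_mem hc.1, by rw [← conj_inv, hc.2]⟩ }
  have hfz : z * f * z⁻¹ = f⁻¹ := by
    calc z * f * z⁻¹ = (z * b * z⁻¹) * ((z * z) * b⁻¹ * (z * z)⁻¹) := by rw [hfdef]; group
      _ = z * b * z⁻¹ * b⁻¹ := by rw [hz2, inv_one, one_mul, mul_one]
      _ = f⁻¹ := by rw [hfdef]; group
  have hAB : ∀ c ∈ A, c ∈ B → c = 1 := fun c hcA hcB => by
    have h1 : c = c⁻¹ := by
      rw [← hcB.2, ← Subgroup.mem_centralizer_singleton_iff.1 hcA.2]
      group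
    have h2 : orderOf c ∣ 2 := orderOf_dvd_of_pow_eq_one (by rw [sq]; nth_rewrite 2 [h1]; exact mul_inv_cancel c)
    have h3 : orderOf c ∣ 9 := hP ▸ Subgroup.orderOf_dvd_natCard _ hcA.1
    exact orderOf_eq_one_iff.1 (Nat.eq_one_of_dvd_coprimes (by norm_num : Nat.Coprime 2 9) h2 h3)
  have hinj : Nat.card A * Nat.card B ≤ 9 := by
    rw [← Nat.card_prod, ← hP]
    refine Nat.card_le_card_of_injective
      (fun p : A × B => (⟨(p.1 : G) * p.2, mul_mem p.1.2.1 p.2.2.1⟩ : (P : Subgroup G))) ?_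
    rintro ⟨c, d⟩ ⟨c', d'⟩ h
    have h' : (c : G) * d = c' * d' := congrArg Subtype.val h
    have hm : (c' : G)⁻¹ * c = d' * (d : G)⁻¹ := by
      rw [inv_mul_eq_iff_eq_mul, ← mul_assoc, ← h', mul_inv_cancel_right]
    have h1 := hAB _ (mul_mem (inv_mem c'.2) c.2) (hm ▸ mul_mem d'.2 (inv_mem d.2))
    rw [inv_mul_eq_one] at h1
    obtain rfl : c' = c := Subtype.ext h1
    obtain rfl : d = d' := Subtype.ext (mul_left_cancel h')
    rfl
  have hthree : ∀ H : Subgroup G, H ≤ (P : Subgroup G) → ∀ x ∈ H, x ≠ 1 → 3 ≤ Nat.card H := by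
    intro H hH x hx hx1
    haveI : Nontrivial H := ⟨⟨⟨x, hx⟩, 1, fun h => hx1 (congrArg Subtype.val h)⟩⟩
    have h1 := Finite.one_lt_card (α := H)
    have h2 : Nat.card H ∣ 9 := hP ▸ Subgroup.card_dvd_of_le hH
    by_contra h3
    interval_cases Nat.card H <;> omega
  have hA3' : 3 ≤ Nat.card A := hthree A inf_le_left e ⟨heP, Subgroup.mem_centralizer_singleton_iff.2 hze.symm⟩ he1
  have hB3' : 3 ≤ Nat.card B := hthree B (fun c hc => hc.1) f ⟨hfP, hfz⟩ hf1
  have hA3 : Nat.card A = 3 := by nlinarith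
  have hB3 : Nat.card B = 3 := by nlinarith
  have hsurj : ∀ x ∈ (P : Subgroup G), ∃ c ∈ A, ∃ d ∈ B, x = c * d := by
    have hbij : Function.Bijective
        (fun p : A × B => (⟨(p.1 : G) * p.2, mul_mem p.1.2.1 p.2.2.1⟩ : (P : Subgroup G))) := by
      refine (Nat.bijective_iff_injective_and_card _).2 ⟨?_, by rw [Nat.card_prod, hA3, hB3, hP]⟩
      rintro ⟨c, d⟩ ⟨c', d'⟩ h
      have h' : (c : G) * d = c' * d' := congrArg Subtype.val h
      have hm : (c' : G)⁻¹ * c = d' * (d : G)⁻¹ := by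
        rw [inv_mul_eq_iff_eq_mul, ← mul_assoc, ← h', mul_inv_cancel_right]
      have h1 := hAB _ (mul_mem (inv_mem c'.2) c.2) (hm ▸ mul_mem d'.2 (inv_mem d.2))
      rw [inv_mul_eq_one] at h1
      obtain rfl : c' = c := Subtype.ext h1
      obtain rfl : d = d' := Subtype.ext (mul_left_cancel h')
      rfl
    intro x hx
    obtain ⟨⟨c, d⟩, h⟩ := hbij.2 ⟨x, hx⟩
    exact ⟨c, c.2, d, d.2, (congrArg Subtype.val h).symm⟩
  -- a group of order sixteen acts on both with trivial kernel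
  have hKA : ∀ k ∈ K, ∀ c ∈ A, k * c * k⁻¹ ∈ A := fun k hk c hc =>
    ⟨(Subgroup.mem_normalizer_iff.1 (hKN hk) c).1 hc.1, Subgroup.mem_centralizer_singleton_iff.2 (by
      have h1 := Subgroup.mem_centralizer_singleton_iff.1 hc.2
      calc k * c * k⁻¹ * z = k * c * (k⁻¹ * (z * k)) * k⁻¹ := by group
        _ = k * c * (k⁻¹ * (k * z)) * k⁻¹ := by rw [hzc k hk]
        _ = k * (c * z) * k⁻¹ := by group
        _ = k * (z * c) * k⁻¹ := by rw [h1]
        _ = (k * z) * c * k⁻¹ := by group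
        _ = (z * k) * c * k⁻¹ := by rw [hzc k hk]
        _ = z * (k * c * k⁻¹) := by group)⟩
  have hKB : ∀ k ∈ K, ∀ c ∈ B, k * c * k⁻¹ ∈ B := fun k hk c hc =>
    ⟨(Subgroup.mem_normalizer_iff.1 (hKN hk) c).1 hc.1, by
      calc z * (k * c * k⁻¹) * z⁻¹ = (z * k) * c * (z * k)⁻¹ := by group
        _ = (k * z) * c * (k * z)⁻¹ := by rw [hzc k hk]
        _ = k * (z * c * z⁻¹) * k⁻¹ := by group
        _ = (k * c * k⁻¹)⁻¹ := by rw [hc.2]; group⟩
  have htwo : ∀ H : Subgroup G, Nat.card H = 3 → ∀ x ∈ H, x ≠ 1 → ∀ y ∈ H, y ≠ 1 → y = x ∨ y = x⁻¹ := by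
    intro H hH x hx hx1 y hy hy1
    have hz' : Subgroup.zpowers x = H := by
      refine Subgroup.eq_of_le_of_card_ge (Subgroup.zpowers_le.2 hx) ?_
      rw [hH, Nat.card_zpowers]
      rcases (Nat.dvd_prime Nat.prime_three).1 (hH ▸ Subgroup.orderOf_dvd_natCard _ hx) with h | h
      · exact absurd (orderOf_eq_one_iff.1 h) hx1
      · exact h.ge
    rw [← hz'] at hy
    obtain ⟨i, rfl⟩ := Subgroup.mem_zpowers_iff.1 hy
    have hx3 : x ^ 3 = 1 := orderOf_dvd_iff_pow_eq_one.1 (hH ▸ Subgroup.orderOf_dvd_natCard _ hx)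
    have h3 : x ^ (3 : ℤ) = 1 := by exact_mod_cast hx3
    have hi : x ^ i = x ^ (i % 3) := by
      conv_lhs => rw [← Int.mul_ediv_add_emod i 3, zpow_add, zpow_mul, h3, one_zpow, one_mul]
    rcases (by omega : i % 3 = 0 ∨ i % 3 = 1 ∨ i % 3 = 2) with h | h | h
    · exact absurd (by rw [hi, h, zpow_zero]) hy1
    · left; rw [hi, h, zpow_one]
    · right
      rw [hi, h, show (2 : ℤ) = 3 + -1 by norm_num, zpow_add, h3, one_mul, zpow_neg_one]
  have heA : e ∈ A := ⟨heP, Subgroup.mem_centralizer_singleton_iff.2 hze.symm⟩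
  have hconj1 : ∀ k c : G, c ≠ 1 → k * c * k⁻¹ ≠ 1 := fun k c hc h => hc (conj_eq_one_iff.1 h)
  let φ : K → Fin 2 × Fin 2 := fun k =>
    (if (k : G) * e * (k : G)⁻¹ = e then 0 else 1, if (k : G) * f * (k : G)⁻¹ = f then 0 else 1)
  have hφ : Function.Injective φ := by
    intro k l h
    simp only [φ, Prod.mk.injEq] at h
    have key : ∀ (H : Subgroup G), Nat.card H = 3 → (∀ k ∈ K, ∀ c ∈ H, k * c * k⁻¹ ∈ H) → ∀ x ∈ H, x ≠ 1 →
        ((if (k : G) * x * (k : G)⁻¹ = x then (0 : Fin 2) else 1) =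
          (if (l : G) * x * (l : G)⁻¹ = x then 0 else 1)) → ∀ c ∈ H, (k : G) * c * (k : G)⁻¹ = l * c * (l : G)⁻¹ := by
      intro H hH hinv x hx hx1 heq c hc
      have hxx : (k : G) * x * (k : G)⁻¹ = l * x * (l : G)⁻¹ := by
        rcases htwo H hH x hx hx1 _ (hinv k k.2 x hx) (hconj1 _ _ hx1) with h1 | h1 <;>
          rcases htwo H hH x hx hx1 _ (hinv l l.2 x hx) (hconj1 _ _ hx1) with h2 | h2 <;> rw [h1, h2] at heq ⊢
        all_goals
          by_cases hxi : x⁻¹ = x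
          · simp [hxi]
          · simp [hxi] at heq
      by_cases hc1 : c = 1
      · simp [hc1]
      rcases htwo H hH x hx hx1 c hc hc1 with rfl | rfl
      · exact hxx
      · rw [← conj_inv, ← conj_inv, hxx]
    have hA' := key A hA3 hKA e heA he1 h.1
    have hB' := key B hB3 hKB f ⟨hfP, hfz⟩ hf1 h.2
    have hmem : (l : G)⁻¹ * k ∈ Subgroup.centralizer ((P : Subgroup G) : Set G) := by
      refine Subgroup.mem_centralizer_iff.2 fun x hx => ?_
      obtain ⟨c, hc, d, hd, rfl⟩ := hsurj x hx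
      have h' : (k : G) * (c * d) * (k : G)⁻¹ = l * (c * d) * (l : G)⁻¹ := by
        rw [← conj_mul, ← conj_mul, hA' c hc, hB' d hd]
      calc c * d * ((l : G)⁻¹ * k) = (l : G)⁻¹ * (l * (c * d) * (l : G)⁻¹) * k := by group
        _ = (l : G)⁻¹ * (k * (c * d) * (k : G)⁻¹) * k := by rw [h']
        _ = (l : G)⁻¹ * k * (c * d) := by group
    rw [hCP] at hmem
    have d1 : orderOf ((l : G)⁻¹ * k) ∣ 9 := hP ▸ Subgroup.orderOf_dvd_natCard _ hmem
    have d2 : orderOf ((l : G)⁻¹ * k) ∣ 16 := hK ▸ Subgroup.orderOf_dvd_natCard _ (mul_mem (inv_mem l.2) k.2)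
    have := orderOf_eq_one_iff.1 (Nat.eq_one_of_dvd_coprimes (by norm_num : Nat.Coprime 9 16) d1 d2)
    rw [inv_mul_eq_one] at this
    exact Subtype.ext this.symm
  have := Nat.card_le_card_of_injective φ hφ
  rw [hK, Nat.card_prod, Nat.card_fin] at this
  omega

/-- Elements of order three: centraliser of order 18, with a unique Sylow 3-subgroup. -/
theorem three_data {y : G} (hy : orderOf y = 3) : Nat.card C[y] = 18 ∧
    ∃ P : Sylow 3 G, y ∈ (P : Subgroup G) ∧ (P : Subgroup G) ≤ C[y] ∧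
      ∀ a ∈ C[y], a ^ 9 = 1 → a ∈ (P : Subgroup G) := by
  haveI : Fact (Nat.Prime 3) := ⟨Nat.prime_three⟩
  haveI : Fact (Nat.Prime 5) := ⟨by norm_num⟩
  haveI : Fact (Nat.Prime 11) := ⟨by norm_num⟩
  obtain ⟨L⟩ := Chars.Order7920.exists_labels hG
  obtain ⟨P, hP⟩ := (IsPGroup.of_card (p := 3) (n := 1)
    (show Nat.card (Subgroup.zpowers y) = 3 ^ 1 by rw [Nat.card_zpowers, hy, pow_one])).exists_le_sylow
  have hyP : y ∈ (P : Subgroup G) := hP (Subgroup.mem_zpowers y)
  obtain ⟨hP9, hPc, -, -, -⟩ := sylow_three hG P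
  obtain ⟨z, -, hz⟩ := exists_inverter hG P
  have hle : (P : Subgroup G) ≤ C[y] := fun a ha =>
    Subgroup.mem_centralizer_singleton_iff.2 (hPc a ha y hyP)
  have hC := (Chars.Order7920.real_three hG L hy (isConj_iff.2 ⟨z, hz y hyP⟩)
    (hP9 ▸ Subgroup.card_dvd_of_le hle)).1
  refine ⟨hC, P, hyP, hle, fun a ha ha9 => ?_⟩
  have hidx : ((P : Subgroup G).subgroupOf C[y]).index = 2 := by
    have := Subgroup.card_mul_index ((P : Subgroup G).subgroupOf C[y])
    rw [Nat.card_congr (Subgroup.subgroupOfEquivOfLe hle).toEquiv, hP9, hC] at this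
    omega
  have h := Subgroup.sq_mem_of_index_two hidx (⟨a, ha⟩ : C[y]) 
  rw [Subgroup.mem_subgroupOf] at h
  have e : a = (a ^ 2) ^ 5 := by rw [← pow_mul, show 2 * 5 = 9 + 1 by norm_num, pow_succ, ha9, one_mul]
  rw [e]
  exact pow_mem h 5

theorem no_four_three {y a b : G} (hy : orderOf y = 3) (ha : orderOf a = 2) (hb : orderOf b = 2)
    (hab : a ≠ b) (hc : a * b = b * a) (hay : a ∈ C[y]) (hby : b ∈ C[y]) : False := by
  have h := four_dvd_of_involutions ha hb hab hc hay hby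
  rw [(three_data hG hy).1] at h
  norm_num at h

theorem exists_inverted {t : G} (ht : orderOf t = 2) :
    ∃ P : Sylow 3 G, ∀ a ∈ (P : Subgroup G), t * a * t⁻¹ = a⁻¹ := by
  haveI : Fact (Nat.Prime 3) := ⟨Nat.prime_three⟩
  let P₀ : Sylow 3 G := default
  obtain ⟨z, hz, hinv⟩ := exists_inverter hG P₀
  obtain ⟨g, rfl⟩ := involutions_conj hG hz ht
  refine ⟨g • P₀, fun a ha => ?_⟩
  change a ∈ ((g • P₀ : Sylow 3 G) : Subgroup G) at ha
  rw [Sylow.coe_subgroup_smul, Subgroup.mem_pointwise_smul_iff_inv_smul_mem] at ha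
  rw [← map_inv, MulAut.smul_def, MulAut.conj_apply] at ha
  have h := hinv _ ha
  calc g * z * g⁻¹ * a * (g * z * g⁻¹)⁻¹ = g * (z * (g⁻¹ * a * g⁻¹⁻¹) * z⁻¹) * g⁻¹ := by group
    _ = a⁻¹ := by rw [h]; group

end Cfsg.Agent.LeadWork.M11Uniq
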