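import Cfsg.Agent.LeadWork.M11Uniq.Index

/-!
Commuting pairs of involutions in a simple group of order 7920.
-/

set_option autoImplicit false
set_option linter.unusedSectionVars false
set_option linter.style.haveILetI false
set_option linter.unusedSimpArgs false
set_option linter.deprecated false

namespace Cfsg.Agent.LeadWork.M11Uniq

universe u

variable {G : Type u} [Group G] [Fintype G] [IsSimpleGroup G]
variable (hG : Nat.card G = 7920)
include hG

local notation "C[" t "]" => Subgroup.centralizer ({t} : Set G)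

theorem mem_cent {a b : G} : a ∈ C[b] ↔ a * b = b * a := Subgroup.mem_centralizer_singleton_iff

set_option maxHeartbeats 1000000 in
theorem trans_noncentral {t u u' : G} (ht : orderOf t = 2) (hu : orderOf u = 2) (hu' : orderOf u' = 2)
    (hut : u ≠ t) (hu't : u' ≠ t) (hc : u * t = t * u) (hc' : u' * t = t * u') :
    ∃ c ∈ C[t], c * u * c⁻¹ = u' := by
  classical
  haveI : Fact (Nat.Prime 3) := ⟨Nat.prime_three⟩
  have htC : t ∈ C[t] := (mem_cent hG).2 rfl
  obtain ⟨P, hP⟩ := exists_inverted hG ht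
  obtain ⟨R, hR8, hRC, -, hRn, -, huniq, -⟩ := exists_core hG ht P hP
  set R' := R.subgroupOf C[t] with hR'def
  haveI hR'n : R'.Normal :=
    ⟨fun r hr c => Subgroup.mem_subgroupOf.2 (hRn c c.2 r (Subgroup.mem_subgroupOf.1 hr))⟩
  have hC := card_involution hG ht
  have hR'8 : Nat.card R' = 8 := by rw [Nat.card_congr (Subgroup.subgroupOfEquivOfLe hRC).toEquiv, hR8]
  have hQ : Nat.card (C[t] ⧸ R') = 6 := by
    have := Subgroup.card_mul_index R'
    rw [hR'8, hC] at this
    rw [← Subgroup.index_eq_card]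
    omega
  obtain ⟨e, he⟩ := exists_prime_orderOf_dvd_card' (G := C[t]) 3 (by rw [hC]; norm_num)
  set π := QuotientGroup.mk' R' with hπ
  have heR : e ∉ R' := fun h => by
    have := Subgroup.orderOf_dvd_natCard _ h
    rw [he, hR'8] at this
    norm_num at this
  have hπe : orderOf (π e) = 3 := by
    refine orderOf_eq_prime (by rw [← map_pow, ← he, pow_orderOf_eq_one, map_one]) fun h => ?_
    exact heR ((QuotientGroup.eq_one_iff e).1 h)
  set Z := Subgroup.zpowers (π e)
  set M := Z.comap π with hM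
  have hZ2 : Z.index = 2 := by
    have := Subgroup.card_mul_index Z
    rw [Nat.card_zpowers, hπe, hQ] at this
    omega
  have hM2 : M.index = 2 := by
    rw [hM, Subgroup.index_comap_of_surjective _ (QuotientGroup.mk'_surjective R'), hZ2]
  have hMc : Nat.card M = 24 := by
    have := Subgroup.card_mul_index M
    rw [hM2, hC] at this
    omega
  -- involutions other than `t` lie outside `M`
  have hout : ∀ x : C[t], orderOf (x : G) = 2 → (x : G) ≠ t → x ∉ M := by
    intro x hx hxt hxM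
    have hxR : x ∉ R' := fun h => hxt (huniq _ (Subgroup.mem_subgroupOf.1 h) hx)
    have h1 : π x ^ 2 = 1 := by
      rw [← map_pow, show x ^ 2 = 1 from Subtype.ext (by
        rw [Subgroup.coe_pow, ← hx, pow_orderOf_eq_one]; rfl), map_one]
    have h2 : orderOf (π x) ∣ 3 := by
      have h' : π x ∈ Subgroup.zpowers (π e) := hxM
      have := Subgroup.orderOf_dvd_natCard _ h'
      rwa [Nat.card_zpowers, hπe] at this
    have h3 := orderOf_dvd_of_pow_eq_one h1
    have h4 := Nat.eq_one_of_dvd_coprimes (by norm_num : Nat.Coprime 3 2) h2 h3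
    exact hxR ((QuotientGroup.eq_one_iff x).1 (orderOf_eq_one_iff.1 h4))
  -- the class of a noncentral involution has at least twelve elements
  let O : G → Set C[t] := fun v => {x | ∃ c : C[t], (x : G) = (c : G) * v * (c : G)⁻¹}
  have hO : ∀ v : G, orderOf v = 2 → v ≠ t → v * t = t * v → 12 ≤ (O v).ncard := by
    intro v hv hvt hvc
    let D := (C[t] ⊓ C[v]).subgroupOf C[t]
    have hD : Nat.card D ≤ 4 := by
      rw [Nat.card_congr (Subgroup.subgroupOfEquivOfLe inf_le_left).toEquiv]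
      calc Nat.card (C[t] ⊓ C[v] : Subgroup G) = ((C[t] ⊓ C[v] : Subgroup G) : Set G).ncard :=
            Nat.card_coe_set_eq _
        _ ≤ ({1, t, v, t * v} : Set G).ncard := Set.ncard_le_ncard (fun x hx => by
            simpa using four_inter hG ht hv hvt hvc x hx) (Set.toFinite _)
        _ ≤ 4 := by
            refine (Set.ncard_insert_le _ _).trans (Nat.succ_le_succ ?_)
            refine (Set.ncard_insert_le _ _).trans (Nat.succ_le_succ ?_)
            refine (Set.ncard_insert_le _ _).trans (Nat.succ_le_succ ?_)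
            rw [Set.ncard_singleton]
    have h12 : 12 ≤ Nat.card (C[t] ⧸ D) := by
      have h := Subgroup.card_mul_index D
      rw [hC] at h
      rw [← Subgroup.index_eq_card]
      nlinarith
    refine h12.trans ?_
    rw [← Nat.card_coe_set_eq]
    have hmem : ∀ q : C[t] ⧸ D, (q.out : G) * v * (q.out : G)⁻¹ ∈ C[t] := fun q =>
      mul_mem (mul_mem q.out.2 ((mem_cent hG).2 hvc)) (inv_mem q.out.2)
    refine Nat.card_le_card_of_injective (fun q => (⟨⟨_, hmem q⟩, q.out, rfl⟩ : O v)) ?_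
    intro q q' h
    have h' : (q.out : G) * v * (q.out : G)⁻¹ = (q'.out : G) * v * (q'.out : G)⁻¹ :=
      congrArg (fun z : O v => ((z.1 : C[t]) : G)) h
    rw [← q.out_eq, ← q'.out_eq]
    refine QuotientGroup.eq.2 (Subgroup.mem_subgroupOf.2 ⟨(q.out⁻¹ * q'.out).2, (mem_cent hG).2 ?_⟩)
    simp only [Subgroup.coe_mul, Subgroup.coe_inv]
    calc (q.out : G)⁻¹ * q'.out * v = (q.out : G)⁻¹ * ((q'.out : G) * v * (q'.out : G)⁻¹) * q'.out := by group
      _ = (q.out : G)⁻¹ * ((q.out : G) * v * (q.out : G)⁻¹) * q'.out := by rw [h']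
      _ = v * ((q.out : G)⁻¹ * q'.out) := by group
  by_contra hcon
  push Not at hcon
  have hsub : ∀ v : G, orderOf v = 2 → v ≠ t → v * t = t * v → ∀ x ∈ O v, orderOf (x : G) = 2 ∧ (x : G) ≠ t := by
    rintro v hv hvt hvc x ⟨c, hx⟩
    refine ⟨by rw [hx, orderOf_conj, hv], fun h => hvt ?_⟩
    have h1 := (mem_cent hG).1 c.2
    calc v = (c : G)⁻¹ * ((c : G) * v * (c : G)⁻¹) * c := by group
      _ = (c : G)⁻¹ * (t * c) := by rw [← hx, h]; group
      _ = t := by rw [← h1]; group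
  have hdisj : Disjoint (O u) (O u') := by
    rw [Set.disjoint_left]
    rintro x ⟨c, hx⟩ ⟨c', hx'⟩
    refine hcon ((c' : G)⁻¹ * c) (mul_mem (inv_mem c'.2) c.2) ?_
    calc (c' : G)⁻¹ * c * u * ((c' : G)⁻¹ * c)⁻¹ = (c' : G)⁻¹ * ((c : G) * u * (c : G)⁻¹) * c' := by group
      _ = u' := by rw [← hx, hx']; group
  have hunion : O u ∪ O u' = (M : Set C[t])ᶜ := by
    refine Set.eq_of_subset_of_ncard_le ?_ ?_
    · rintro x (hx | hx)
      · exact hout x (hsub u hu hut hc x hx).1 (hsub u hu hut hc x hx).2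
      · exact hout x (hsub u' hu' hu't hc' x hx).1 (hsub u' hu' hu't hc' x hx).2
    · rw [Set.ncard_union_eq hdisj, Set.ncard_compl, hC, ← Nat.card_coe_set_eq]
      change 48 - Nat.card M ≤ _
      rw [hMc]
      have := hO u hu hut hc
      have := hO u' hu' hu't hc'
      omega
  have hinvol : ∀ x : C[t], x ∉ M → x * x = 1 := fun x hx => by
    have : x ∈ O u ∪ O u' := hunion ▸ hx
    apply Subtype.ext
    rcases this with h | h
    · exact mul_self_of_orderOf_two (hsub u hu hut hc x h).1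
    · exact mul_self_of_orderOf_two (hsub u' hu' hu't hc' x h).1
  -- hence `M` is abelian
  let u₀ : C[t] := ⟨u, (mem_cent hG).2 hc⟩
  have hu₀ : u₀ ∉ M := hout u₀ hu hut
  have hinvM : ∀ m ∈ M, u₀ * m * u₀⁻¹ = m⁻¹ := fun m hm => by
    have h1 := hinvol (u₀ * m) fun h => hu₀ ((Subgroup.mul_mem_cancel_right M hm).1 h)
    have h2 : u₀⁻¹ = u₀ := inv_eq_of_mul_eq_one_right (hinvol u₀ hu₀)
    rw [h2]
    exact eq_inv_of_mul_eq_one_left (by rw [← h1]; group)
  have heM : e ∈ M := Subgroup.mem_zpowers (π e)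
  have hab : ∀ r ∈ R', e * r = r * e := fun r hr => by
    have hrM : r ∈ M := by
      show π r ∈ Z
      rw [show π r = 1 from (QuotientGroup.eq_one_iff r).2 hr]
      exact one_mem _
    have h1 := hinvM _ (mul_mem heM hrM)
    rw [← conj_mul, hinvM e heM, hinvM r hrM, mul_inv_rev] at h1
    exact inv_injective (by rw [mul_inv_rev, mul_inv_rev]; exact h1.symm)
  have hR2 : ∀ r ∈ R, r = 1 ∨ r = t := fun r hr => by
    refine cent_three hG (by rw [Subgroup.orderOf_coe]; exact he : orderOf (e : G) = 3) ht e.2 ((mem_cent hG).2 ?_)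
      (hRC hr) (orderOf_dvd_iff_pow_eq_one.1 ((Subgroup.orderOf_dvd_natCard _ hr).trans (by rw [hR8]; norm_num)))
    exact (congrArg Subtype.val (hab ⟨r, hRC hr⟩ (Subgroup.mem_subgroupOf.2 hr))).symm
  have : Nat.card R ≤ 2 := by
    calc Nat.card R = (R : Set G).ncard := Nat.card_coe_set_eq _
      _ ≤ ({1, t} : Set G).ncard := Set.ncard_le_ncard (fun r hr => by simpa using hR2 r hr) (Set.toFinite _)
      _ ≤ 2 := (Set.ncard_insert_le _ _).trans (by rw [Set.ncard_singleton])
  omega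

theorem trans_pairs {a b a' b' : G} (ha : orderOf a = 2) (hb : orderOf b = 2) (hab : a ≠ b)
    (hc : a * b = b * a) (ha' : orderOf a' = 2) (hb' : orderOf b' = 2) (hab' : a' ≠ b')
    (hc' : a' * b' = b' * a') : ∃ g : G, g * a * g⁻¹ = a' ∧ g * b * g⁻¹ = b' := by
  obtain ⟨g, hg⟩ := involutions_conj hG ha ha'
  have h1 : g * b * g⁻¹ ≠ a' := fun h => hab (by
    rw [← hg] at h
    exact (mul_left_cancel (mul_right_cancel h)).symm)
  have h2 : g * b * g⁻¹ * a' = a' * (g * b * g⁻¹) := by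
    rw [← hg, conj_mul, conj_mul, hc]
  obtain ⟨c, hcC, hc⟩ := trans_noncentral hG ha' (by rw [orderOf_conj, hb]) hb' h1 hab'.symm h2 hc'.symm
  refine ⟨c * g, ?_, ?_⟩
  · calc c * g * a * (c * g)⁻¹ = c * (g * a * g⁻¹) * c⁻¹ := by group
      _ = c * a' * c⁻¹ := by rw [hg]
      _ = a' := by rw [(mem_cent hG).1 hcC]; group
  · calc c * g * b * (c * g)⁻¹ = c * (g * b * g⁻¹) * c⁻¹ := by group
      _ = b' := hc

/-- The four group attached to a commuting pair. -/
theorem pair_data {w t : G} (hw : orderOf w = 2) (ht : orderOf t = 2) (hwt : w ≠ t) (hc : w * t = t * w) :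
    ∃ y w₁ : G, orderOf y = 3 ∧ t * y * t⁻¹ = y⁻¹ ∧ (w * y) ^ 3 = 1 ∧ orderOf w₁ = 2 ∧ w ≠ w₁ ∧
      w * w₁ = w₁ * w ∧ y * w * y⁻¹ = w₁ ∧ y * w₁ * y⁻¹ = w * w₁ ∧ t * w₁ * t⁻¹ = w * w₁ := by
  haveI : Fact (Nat.Prime 2) := ⟨Nat.prime_two⟩
  -- some four group
  have hC := card_involution hG hw
  have ha := hw
  set a := w with haw
  obtain ⟨b, hb, hab, hcab⟩ : ∃ b : G, orderOf b = 2 ∧ a ≠ b ∧ a * b = b * a := ⟨t, ht, hwt, hc⟩
  have hab2 := mul_of_commuting_involutions ha hb hab hcab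
  have habb : b ≠ a * b := fun h => ne_one_of_orderOf_two ha (mul_eq_right.1 h.symm)
  have haab : a ≠ a * b := fun h => ne_one_of_orderOf_two hb (mul_eq_left.1 h.symm)
  have hb2 := mul_self_of_orderOf_two hb
  have ha2 := mul_self_of_orderOf_two ha
  have hc1 : b * (a * b) = a * b * b := by rw [← mul_assoc, ← hcab]
  obtain ⟨x, hxa, hxb⟩ := trans_pairs hG ha hb hab hcab hb hab2 habb hc1
  have hc2 : a * (a * b) = a * b * a := by rw [mul_assoc, ← hcab]
  obtain ⟨s₀, hsa₀, hsb₀⟩ := trans_pairs hG ha hb hab hcab ha hab2 haab hc2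
  have hxab : x * (a * b) * x⁻¹ = a := by
    rw [← conj_mul, hxa, hxb, ← mul_assoc, ← hcab, mul_assoc, hb2, mul_one]
  have hsab₀ : s₀ * (a * b) * s₀⁻¹ = b := by
    rw [← conj_mul, hsa₀, hsb₀, ← mul_assoc, ha2, one_mul]
  -- make the transposing element an involution
  obtain ⟨s, hs, hsa, hsb⟩ : ∃ s : G, s * s = 1 ∧ s * a * s⁻¹ = a ∧ s * b * s⁻¹ = a * b := by
    have hm : s₀ * s₀ ∈ C[a] ⊓ C[b] := by
      refine ⟨(mem_cent hG).2 (mul_inv_eq_iff_eq_mul.1 ?_), (mem_cent hG).2 (mul_inv_eq_iff_eq_mul.1 ?_)⟩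
      · calc s₀ * s₀ * a * (s₀ * s₀)⁻¹ = s₀ * (s₀ * a * s₀⁻¹) * s₀⁻¹ := by group
          _ = a := by rw [hsa₀, hsa₀]
      · calc s₀ * s₀ * b * (s₀ * s₀)⁻¹ = s₀ * (s₀ * b * s₀⁻¹) * s₀⁻¹ := by group
          _ = b := by rw [hsb₀, hsab₀]
    have hfix : s₀ * (s₀ * s₀) * s₀⁻¹ = s₀ * s₀ := by group
    rcases four_inter hG ha hb hab.symm hcab.symm _ hm with h | h | h | h
    · exact ⟨s₀, h, hsa₀, hsb₀⟩
    · refine ⟨s₀ * b, ?_, ?_, ?_⟩
      · calc s₀ * b * (s₀ * b) = (s₀ * b * s₀⁻¹) * (s₀ * s₀) * b := by group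
          _ = a * b * a * b := by rw [hsb₀, h]
          _ = 1 := by rw [hcab, mul_assoc b a a, ha2, mul_one, hb2]
      · calc s₀ * b * a * (s₀ * b)⁻¹ = s₀ * (b * a * b⁻¹) * s₀⁻¹ := by group
          _ = s₀ * a * s₀⁻¹ := by rw [← hcab, mul_inv_cancel_right]
          _ = a := hsa₀
      · calc s₀ * b * b * (s₀ * b)⁻¹ = s₀ * b * s₀⁻¹ := by group
          _ = a * b := hsb₀
    · rw [h, hsb₀] at hfix
      exact absurd hfix.symm habb
    · rw [h, hsab₀] at hfix
      exact absurd hfix habb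
  have hsab : s * (a * b) * s⁻¹ = b := by rw [← conj_mul, hsa, hsb, ← mul_assoc, ha2, one_mul]
  have hs1 : s ≠ 1 := fun h => by
    rw [h] at hsb
    simp only [one_mul, inv_one, mul_one] at hsb
    exact habb hsb
  have hs2 : orderOf s = 2 := orderOf_two_of_mul hs hs1
  have hsna : s ≠ a := fun h => by
    rw [h, hcab, mul_inv_cancel_right] at hsb
    exact habb (hsb.trans hcab.symm)
  have hsi : s⁻¹ = s := inv_eq_self_of_orderOf_two hs2
  -- the element of order three
  set y := s * (x * s * x⁻¹) with hy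
  have hxinv : x⁻¹ * a * x = a * b := by
    calc x⁻¹ * a * x = x⁻¹ * (x * (a * b) * x⁻¹) * x := by rw [hxab]
      _ = a * b := by group
  have hxinvb : x⁻¹ * b * x = a := by
    calc x⁻¹ * b * x = x⁻¹ * (x * a * x⁻¹) * x := by rw [hxa]
      _ = a := by group
  have hya : y * a * y⁻¹ = b := by
    calc y * a * y⁻¹ = s * (x * (s * (x⁻¹ * a * x) * s⁻¹) * x⁻¹) * s⁻¹ := by rw [hy]; group
      _ = b := by rw [hxinv, hsab, hxb, hsab]
  have hyb : y * b * y⁻¹ = a * b := by
    calc y * b * y⁻¹ = s * (x * (s * (x⁻¹ * b * x) * s⁻¹) * x⁻¹) * s⁻¹ := by rw [hy]; group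
      _ = a * b := by rw [hxinvb, hsa, hxa, hsb]
  have hyab : y * (a * b) * y⁻¹ = a := by
    rw [← conj_mul, hya, hyb, ← mul_assoc, ← hcab, mul_assoc, hb2, mul_one]
  have cube : ∀ z : G, z * a * z⁻¹ = b → z * b * z⁻¹ = a * b → z * (a * b) * z⁻¹ = a → z ^ 3 = 1 := by
    intro z za zb zab
    have hm : z ^ 3 ∈ C[a] ⊓ C[b] := by
      refine ⟨(mem_cent hG).2 (mul_inv_eq_iff_eq_mul.1 ?_), (mem_cent hG).2 (mul_inv_eq_iff_eq_mul.1 ?_)⟩
      · calc z ^ 3 * a * (z ^ 3)⁻¹ = z * (z * (z * a * z⁻¹) * z⁻¹) * z⁻¹ := by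
              simp [pow_succ, mul_assoc]
          _ = a := by rw [za, zb, zab]
      · calc z ^ 3 * b * (z ^ 3)⁻¹ = z * (z * (z * b * z⁻¹) * z⁻¹) * z⁻¹ := by
              simp [pow_succ, mul_assoc]
          _ = b := by rw [zb, zab, za]
    have hfix : z * z ^ 3 * z⁻¹ = z ^ 3 := by
      rw [(Commute.self_pow z 3).eq, mul_inv_cancel_right]
    rcases four_inter hG ha hb hab.symm hcab.symm _ hm with h | h | h | h
    · exact h
    · rw [h, za] at hfix; exact absurd hfix.symm hab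
    · rw [h, zb] at hfix; exact absurd hfix.symm habb
    · rw [h, zab] at hfix; exact absurd hfix haab
  have hy3 : orderOf y = 3 := by
    refine orderOf_three_of_pow (cube y hya hyb hyab) fun h => ?_
    rw [h] at hya
    simp only [one_mul, inv_one, mul_one] at hya
    exact hab hya
  have hsy : s * y * s⁻¹ = y⁻¹ := by
    rw [hy, hsi]
    simp only [mul_inv_rev, inv_inv, hsi, ← mul_assoc, hs, one_mul]
  have hay : (a * y) ^ 3 = 1 := by
    have hca : ∀ v : G, a * y * v * (a * y)⁻¹ = a * (y * v * y⁻¹) * a⁻¹ := fun v => by group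
    have hcb : a * b * a⁻¹ = b := by rw [hcab, mul_inv_cancel_right]
    have hcab' : a * (a * b) * a⁻¹ = a * b := by rw [← mul_assoc, mul_assoc (a * a), ← mul_assoc]; simp [ha2, hcb, inv_eq_self_of_orderOf_two ha, hcab, mul_assoc]
    refine cube _ ?_ ?_ ?_
    · rw [hca, hya, hcb]
    · rw [hca, hyb, hcab']
    · rw [hca, hyab, mul_inv_cancel_right]
  have hsas : a * s = s * a := (mul_inv_eq_iff_eq_mul.1 hsa).symm
  -- move to the given pair
  obtain ⟨g, hga, hgs⟩ := trans_pairs hG ha hs2 hsna.symm hsas hw ht hwt hc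
  set f : G →* G := (MulAut.conj g).toMonoidHom
  have hfa : f a = a := hga
  have hfs : f s = t := hgs
  have hfi : Function.Injective f := (MulAut.conj g).injective
  refine ⟨f y, f b, (orderOf_conj g y).trans hy3, ?_, ?_, (orderOf_conj g b).trans hb, ?_, ?_, ?_, ?_, ?_⟩
  · simpa only [map_mul, map_inv, hfs] using congrArg f hsy
  · simpa only [map_mul, map_pow, map_one, hfa] using congrArg f hay
  · intro h
    exact hab (hfi (hfa.trans h))
  · simpa only [map_mul, hfa] using congrArg f hcab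
  · simpa only [map_mul, map_inv, hfa] using congrArg f hya
  · simpa only [map_mul, map_inv, hfa] using congrArg f hyb
  · simpa only [map_mul, map_inv, hfa, hfs] using congrArg f hsb

end Cfsg.Agent.LeadWork.M11Uniq
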