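import Cfsg.Agent.LeadWork.M11Uniq.Eleven
import Cfsg.Agent.PermGroups.DegreeElevenOdd
import Cfsg.Agent.Golay.SmallSteinerAut

/-!
A simple group of order 7920 is the automorphism group of a Steiner system `S(4, 5, 11)`, hence unique.
-/

set_option autoImplicit false
set_option linter.unusedSectionVars false
set_option linter.unusedSimpArgs false
set_option linter.deprecated false

open Cfsg
open scoped Pointwise

namespace Cfsg.Agent.LeadWork.M11Uniq

universe u

section Sharp

variable {G : Type u} [Group G] [Fintype G] [IsSimpleGroup G] {α : Type u} [Fintype α] [DecidableEq α] [MulAction G α]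

/-- The quadruple as a tuple. -/
theorem exists_tuple {a b c d : α} (h1 : a ≠ b) (h2 : a ≠ c) (h3 : a ≠ d) (h4 : b ≠ c) (h5 : b ≠ d) (h6 : c ≠ d) :
    ∃ x : Fin 4 ↪ α, x 0 = a ∧ x 1 = b ∧ x 2 = c ∧ x 3 = d :=
  ⟨⟨![a, b, c, d], by intro i j; fin_cases i <;> fin_cases j <;>
    simp [h1, h2, h3, h4, h5, h6, h1.symm, h2.symm, h3.symm, h4.symm, h5.symm, h6.symm]⟩, rfl, rfl, rfl, rfl⟩

variable (hG : Nat.card G = 7920) (hα : Fintype.card α = 11)
variable [MulAction.IsMultiplyPretransitive G α 4] (hsharp : ∀ x : Fin 4 ↪ α, MulAction.stabilizer G x = ⊥)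
include hG hα hsharp

theorem fix_four {g : G} {a b c d : α} (h1 : a ≠ b) (h2 : a ≠ c) (h3 : a ≠ d) (h4 : b ≠ c) (h5 : b ≠ d)
    (h6 : c ≠ d) (ga : g • a = a) (gb : g • b = b) (gc : g • c = c) (gd : g • d = d) : g = 1 := by
  obtain ⟨x, x0, x1, x2, x3⟩ := exists_tuple h1 h2 h3 h4 h5 h6
  have : g ∈ MulAction.stabilizer G x := by
    refine DFunLike.ext _ _ fun i => ?_
    show g • x i = x i
    fin_cases i
    · simp only [Fin.zero_eta, x0, ga]
    · simp only [Fin.mk_one, x1, gb]
    · show g • x 2 = x 2; rw [x2, gc]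
    · show g • x 3 = x 3; rw [x3, gd]
  rwa [hsharp, Subgroup.mem_bot] at this

theorem move_four {a b c d a' b' c' d' : α} (h1 : a ≠ b) (h2 : a ≠ c) (h3 : a ≠ d) (h4 : b ≠ c) (h5 : b ≠ d)
    (h6 : c ≠ d) (k1 : a' ≠ b') (k2 : a' ≠ c') (k3 : a' ≠ d') (k4 : b' ≠ c') (k5 : b' ≠ d') (k6 : c' ≠ d') :
    ∃ g : G, g • a = a' ∧ g • b = b' ∧ g • c = c' ∧ g • d = d' := by
  obtain ⟨x, x0, x1, x2, x3⟩ := exists_tuple h1 h2 h3 h4 h5 h6
  obtain ⟨x', x0', x1', x2', x3'⟩ := exists_tuple k1 k2 k3 k4 k5 k6
  obtain ⟨g, hg⟩ := MulAction.exists_smul_eq G x x'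
  have e : ∀ i, g • x i = x' i := fun i => congrArg (fun f : Fin 4 ↪ α => f i) hg
  exact ⟨g, x0 ▸ x0' ▸ e 0, x1 ▸ x1' ▸ e 1, x2 ▸ x2' ▸ e 2, x3 ▸ x3' ▸ e 3⟩

theorem card_fixed_modEq (g : G) {p : ℕ} [Fact p.Prime] (hg : g ^ p = 1) :
    11 % p = (MulAction.fixedBy α g).ncard % p := by
  classical
  let f : Function.End α := fun x => g • x
  have hpow : ∀ (n : ℕ) (x : α), (f ^ n) x = g ^ n • x := by
    intro n
    induction n with
    | zero => intro x; rw [pow_zero, pow_zero, one_smul]; rfl
    | succ n ih =>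
      intro x
      rw [pow_succ', pow_succ', mul_smul, ← ih x]
      rfl
  have hf : f ^ p ^ 1 = 1 := by
    funext x
    rw [hpow, pow_one, hg, one_smul]
    rfl
  have h := Equiv.Perm.card_fixedPoints_modEq hf
  rw [hα, ← Nat.card_eq_fintype_card, Nat.card_coe_set_eq] at h
  exact h

theorem fixed_le_three {g : G} (hg : g ≠ 1) : (MulAction.fixedBy α g).ncard ≤ 3 := by
  classical
  by_contra h
  push Not at h
  have hc : 3 < (Set.toFinite (MulAction.fixedBy α g)).toFinset.card := by rwa [← Set.ncard_eq_toFinset_card _]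
  obtain ⟨T, hT, hT4⟩ := Finset.exists_subset_card_eq (Nat.succ_le_of_lt hc)
  obtain ⟨a, b, c, d, h1, h2, h3, h4, h5, h6, rfl⟩ := Finset.card_eq_four.1 hT4
  have m : ∀ x ∈ ({a, b, c, d} : Finset α), g • x = x := fun x hx => by simpa using hT hx
  exact hg (fix_four hG hα hsharp h1 h2 h3 h4 h5 h6 (m a (by simp)) (m b (by simp)) (m c (by simp)) (m d (by simp)))

theorem fixed_three {g : G} (hg : orderOf g = 3) : (MulAction.fixedBy α g).ncard = 2 := by
  haveI : Fact (Nat.Prime 3) := ⟨Nat.prime_three⟩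
  have h := card_fixed_modEq hG hα hsharp g (hg ▸ pow_orderOf_eq_one g)
  have := fixed_le_three hG hα hsharp (g := g) (fun h => by rw [h, orderOf_one] at hg; omega)
  omega

theorem fixed_two {g : G} (hg : orderOf g = 2) : (MulAction.fixedBy α g).ncard = 3 := by
  classical
  haveI : Fact (Nat.Prime 2) := ⟨Nat.prime_two⟩
  obtain ⟨a, b, c, d, h1, h2, h3, h4, h5, h6⟩ : ∃ a b c d : α, a ≠ b ∧ a ≠ c ∧ a ≠ d ∧ b ≠ c ∧ b ≠ d ∧ c ≠ d := by
    obtain ⟨T, -, hT⟩ := Finset.exists_subset_card_eq (s := (Finset.univ : Finset α)) (n := 4)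
      (by rw [Finset.card_univ, hα]; norm_num)
    obtain ⟨a, b, c, d, h1, h2, h3, h4, h5, h6, -⟩ := Finset.card_eq_four.1 hT
    exact ⟨a, b, c, d, h1, h2, h3, h4, h5, h6⟩
  obtain ⟨s, sa, sb, sc, sd⟩ := move_four hG hα hsharp h1 h2 h3 h4 h5 h6 h1.symm h4 h5 h2 h3 h6
  have hs2 : s * s = 1 := fix_four hG hα hsharp h1 h2 h3 h4 h5 h6
    (by rw [mul_smul, sa, sb]) (by rw [mul_smul, sb, sa]) (by rw [mul_smul, sc, sc]) (by rw [mul_smul, sd, sd])
  have hs1 : s ≠ 1 := fun h => h1 (by rw [← sa, h, one_smul])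
  have hs := orderOf_two_of_mul hs2 hs1
  have h2le : 2 ≤ (MulAction.fixedBy α s).ncard := by
    rw [← Set.ncard_pair h6]
    exact Set.ncard_le_ncard (fun x hx => by rcases hx with rfl | rfl <;> assumption) (Set.toFinite _)
  have hsodd := card_fixed_modEq hG hα hsharp s (p := 2) (by rw [sq, hs2])
  have hsle := fixed_le_three hG hα hsharp hs1
  obtain ⟨k, hk⟩ := involutions_conj hG hs hg
  have : MulAction.fixedBy α g = (fun x => k • x) '' MulAction.fixedBy α s := by
    ext x
    simp only [MulAction.mem_fixedBy, Set.mem_image, ← hk]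
    constructor
    · intro hx
      refine ⟨k⁻¹ • x, ?_, smul_inv_smul k x⟩
      rw [eq_inv_smul_iff, ← mul_smul, ← mul_smul]
      exact hx
    · rintro ⟨y, hy, rfl⟩
      rw [mul_smul, mul_smul, inv_smul_smul, hy]
  rw [this, Set.ncard_image_of_injective _ (MulAction.injective k)]
  omega

/-- The fifth point of a block. -/
theorem exists_fifth {a b c d : α} (h1 : a ≠ b) (h2 : a ≠ c) (h3 : a ≠ d) (h4 : b ≠ c) (h5 : b ≠ d) (h6 : c ≠ d) :
    ∃ p : α, p ∉ ({a, b, c, d} : Finset α) ∧
      ∀ g : G, g • ({a, b, c, d} : Finset α) = ({a, b, c, d} : Finset α) → g • p = p := by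
  classical
  obtain ⟨x, xa, xb, xc, xd⟩ := move_four hG hα hsharp h1 h2 h3 h4 h5 h6 h4 h1.symm h5 h2.symm h6 h3
  obtain ⟨τ, ta, tb, tc, td⟩ := move_four hG hα hsharp h1 h2 h3 h4 h5 h6 h1.symm h4 h5 h2 h3 h6
  obtain ⟨u, ua, ub, uc, ud⟩ := move_four hG hα hsharp h1 h2 h3 h4 h5 h6 h1.symm h5 h4 h3 h2 h6.symm
  obtain ⟨v, va, vb, vc, vd⟩ := move_four hG hα hsharp h1 h2 h3 h4 h5 h6 h6 h2.symm h4.symm h3.symm h5.symm h1
  have eq_of : ∀ g h : G, g • a = h • a → g • b = h • b → g • c = h • c → g • d = h • d → g = h := by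
    intro g h ea eb ec ed
    have := fix_four hG hα hsharp h1 h2 h3 h4 h5 h6 (g := h⁻¹ * g) (by rw [mul_smul, ea, inv_smul_smul])
      (by rw [mul_smul, eb, inv_smul_smul]) (by rw [mul_smul, ec, inv_smul_smul]) (by rw [mul_smul, ed, inv_smul_smul])
    exact (inv_mul_eq_one.1 this).symm
  have hx3 : x ^ 3 = 1 := eq_of _ _ (by simp [pow_succ, mul_smul, xa, xb, xc]) (by simp [pow_succ, mul_smul, xa, xb, xc])
    (by simp [pow_succ, mul_smul, xa, xb, xc]) (by simp [pow_succ, mul_smul, xd])
  have hx1 : x ≠ 1 := fun h => h1 (by rw [← xa, h, one_smul])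
  have hxo := orderOf_three_of_pow hx3 hx1
  have ht2 : τ * τ = 1 := eq_of _ _ (by simp [mul_smul, ta, tb]) (by simp [mul_smul, ta, tb]) (by simp [mul_smul, tc]) (by simp [mul_smul, td])
  have hu2 : u * u = 1 := eq_of _ _ (by simp [mul_smul, ua, ub]) (by simp [mul_smul, ua, ub]) (by simp [mul_smul, uc, ud]) (by simp [mul_smul, uc, ud])
  have hv2 : v * v = 1 := eq_of _ _ (by simp [mul_smul, va, vc]) (by simp [mul_smul, vb, vd]) (by simp [mul_smul, va, vc]) (by simp [mul_smul, vb, vd])
  have huv : u * v = v * u := eq_of _ _ (by simp [mul_smul, ua, ub, uc, ud, va, vb, vc, vd])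
    (by simp [mul_smul, ua, ub, uc, ud, va, vb, vc, vd]) (by simp [mul_smul, ua, ub, uc, ud, va, vb, vc, vd])
    (by simp [mul_smul, ua, ub, uc, ud, va, vb, vc, vd])
  have hu : orderOf u = 2 := orderOf_two_of_mul hu2 fun h => h1 (show a = b by rw [← ua, h, one_smul])
  have hv : orderOf v = 2 := orderOf_two_of_mul hv2 fun h => h2 (show a = c by rw [← va, h, one_smul])
  have huvne : u ≠ v := fun h => h4 (by rw [← ua, h, va])
  have hτ1 : τ ≠ 1 := fun h => h1 (show a = b by rw [← ta, h, one_smul])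
  have hτ := orderOf_two_of_mul ht2 hτ1
  -- the second fixed point of the three-cycle
  obtain ⟨o, hod, hxF⟩ : ∃ o, o ≠ d ∧ MulAction.fixedBy α x = {d, o} := by
    obtain ⟨p, q, hpq, he⟩ := Set.ncard_eq_two.1 (fixed_three hG hα hsharp hxo)
    have hd : d ∈ ({p, q} : Set α) := he ▸ xd
    rcases hd with rfl | rfl
    · exact ⟨q, hpq.symm, he⟩
    · exact ⟨p, hpq, he.trans (Set.pair_comm _ _)⟩
  have xo : x • o = o := by
    have : o ∈ MulAction.fixedBy α x := by rw [hxF]; simp
    exact this
  have hoQ : o ∉ ({a, b, c, d} : Finset α) := by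
    simp only [Finset.mem_insert, Finset.mem_singleton, not_or]
    exact ⟨fun h => h1.symm (by rw [h, xa] at xo; exact xo), fun h => h4.symm (by rw [h, xb] at xo; exact xo),
      fun h => h2 (by rw [h, xc] at xo; exact xo), hod⟩
  simp only [Finset.mem_insert, Finset.mem_singleton, not_or] at hoQ
  obtain ⟨hoa, hob, hoc, -⟩ := hoQ
  have hτx : τ * x * τ = x⁻¹ := by
    rw [eq_inv_iff_mul_eq_one]
    exact eq_of _ _ (by simp [mul_smul, ta, tb, tc, xa, xb, xc]) (by simp [mul_smul, ta, tb, tc, xa, xb, xc])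
      (by simp [mul_smul, ta, tb, tc, xa, xb, xc]) (by simp [mul_smul, td, xd])
  have to' : τ • o = o := by
    have h : x • (τ • o) = τ • o := by
      have hxi : x⁻¹ • o = o := inv_smul_eq_iff.2 xo.symm
      calc x • (τ • o) = (τ * τ) • x • τ • o := by rw [ht2, one_smul]
        _ = τ • (τ * x * τ) • o := by simp only [mul_smul]
        _ = τ • o := by rw [hτx, hxi]
    have : τ • o ∈ ({d, o} : Set α) := hxF ▸ h
    rcases this with h' | h'
    · exact absurd (MulAction.injective τ (h'.trans td.symm)) hod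
    · exact h'
  have hτF : MulAction.fixedBy α τ = {c, d, o} := by
    refine (Set.eq_of_subset_of_ncard_le ?_ ?_ (Set.toFinite _)).symm
    · rintro z (rfl | rfl | rfl) <;> assumption
    · rw [fixed_two hG hα hsharp hτ, Set.ncard_eq_three.2 ⟨c, d, o, h6, Ne.symm hoc, Ne.symm hod, rfl⟩]
  -- the four group fixes `o`
  obtain ⟨uo, vo⟩ : u • o = o ∧ v • o = o := by
    by_contra hno
    let w := u * v
    have hw : orderOf w = 2 := mul_of_commuting_involutions hu hv huvne huv
    set A := MulAction.fixedBy α u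
    set B := MulAction.fixedBy α v
    set C := MulAction.fixedBy α w
    have h7 : ∀ z ∈ A ∪ B ∪ C, z ∉ ({a, b, c, d} : Set α) := by
      intro z hz hzQ
      rcases hz with (hz | hz) | hz <;> simp only [MulAction.mem_fixedBy, A, B, C, w, mul_smul] at hz <;>
        rcases hzQ with rfl | rfl | rfl | rfl <;>
        simp only [ua, ub, uc, ud, va, vb, vc, vd] at hz <;>
        first
          | exact h1 hz | exact h1 hz.symm | exact h2 hz | exact h2 hz.symm | exact h3 hz | exact h3 hz.symm
          | exact h4 hz | exact h4 hz.symm | exact h5 hz | exact h5 hz.symm | exact h6 hz | exact h6 hz.symm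
    set F := A ∩ B with hF
    have hFC : ∀ z ∈ F, z ∈ C := fun z ⟨hzA, hzB⟩ => by
      show (u * v) • z = z
      rw [mul_smul, hzB, hzA]
    have hne : F.Nonempty := by
      rw [Set.nonempty_iff_ne_empty]
      intro hempty
      have hAC : A ∩ C = ∅ := by
        rw [Set.eq_empty_iff_forall_notMem] at hempty ⊢
        rintro z ⟨hzA, hzC⟩
        refine hempty z ⟨hzA, ?_⟩
        show v • z = z
        have h : (u * v) • z = z := hzC
        calc v • z = u • (u * v) • z := by rw [← mul_smul, ← mul_assoc, hu2, one_mul]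
          _ = z := by rw [h, hzA]
      have hBC : B ∩ C = ∅ := by
        rw [Set.eq_empty_iff_forall_notMem] at hempty ⊢
        rintro z ⟨hzB, hzC⟩
        refine hempty z ⟨?_, hzB⟩
        show u • z = z
        have h : (u * v) • z = z := hzC
        rw [mul_smul, hzB] at h
        exact h
      have hU : (A ∪ B ∪ C).ncard = 9 := by
        rw [Set.ncard_union_eq (by rw [Set.disjoint_iff_inter_eq_empty, Set.union_inter_distrib_right, hAC, hBC, Set.union_empty]),
          Set.ncard_union_eq (Set.disjoint_iff_inter_eq_empty.2 hempty),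
          fixed_two hG hα hsharp hu, fixed_two hG hα hsharp hv, fixed_two hG hα hsharp hw]
      have h11 : (A ∪ B ∪ C).ncard + ({a, b, c, d} : Set α).ncard ≤ 11 := by
        rw [← Set.ncard_union_eq (Set.disjoint_left.2 h7), ← hα, ← Nat.card_eq_fintype_card, ← Set.ncard_univ]
        exact Set.ncard_le_ncard (Set.subset_univ _) (Set.toFinite _)
      rw [hU, Set.ncard_eq_four.2 ⟨a, b, c, d, h1, h2, h3, h4, h5, h6, rfl⟩] at h11
      omega
    -- invariance of the common fixed set
    have hxF' : ∀ z ∈ F, x • z ∈ F := fun z hz => by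
      have e1 : u * x = x * v := eq_of _ _ (by simp [mul_smul, ua, ub, uc, ud, va, vb, vc, vd, xa, xb, xc, xd])
        (by simp [mul_smul, ua, ub, uc, ud, va, vb, vc, vd, xa, xb, xc, xd])
        (by simp [mul_smul, ua, ub, uc, ud, va, vb, vc, vd, xa, xb, xc, xd])
        (by simp [mul_smul, ua, ub, uc, ud, va, vb, vc, vd, xa, xb, xc, xd])
      have e2 : v * x = x * (u * v) := eq_of _ _ (by simp [mul_smul, ua, ub, uc, ud, va, vb, vc, vd, xa, xb, xc, xd])
        (by simp [mul_smul, ua, ub, uc, ud, va, vb, vc, vd, xa, xb, xc, xd])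
        (by simp [mul_smul, ua, ub, uc, ud, va, vb, vc, vd, xa, xb, xc, xd])
        (by simp [mul_smul, ua, ub, uc, ud, va, vb, vc, vd, xa, xb, xc, xd])
      exact ⟨by show u • x • z = x • z; rw [← mul_smul, e1, mul_smul, hz.2],
        by show v • x • z = x • z; rw [← mul_smul, e2, mul_smul, mul_smul, hz.2, hz.1]⟩
    have hτF' : ∀ z ∈ F, τ • z ∈ F := fun z hz => by
      have e1 : u * τ = τ * u := eq_of _ _ (by simp [mul_smul, ua, ub, uc, ud, ta, tb, tc, td])
        (by simp [mul_smul, ua, ub, uc, ud, ta, tb, tc, td]) (by simp [mul_smul, ua, ub, uc, ud, ta, tb, tc, td])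
        (by simp [mul_smul, ua, ub, uc, ud, ta, tb, tc, td])
      have e2 : v * τ = τ * (u * v) := eq_of _ _ (by simp [mul_smul, ua, ub, uc, ud, va, vb, vc, vd, ta, tb, tc, td])
        (by simp [mul_smul, ua, ub, uc, ud, va, vb, vc, vd, ta, tb, tc, td])
        (by simp [mul_smul, ua, ub, uc, ud, va, vb, vc, vd, ta, tb, tc, td])
        (by simp [mul_smul, ua, ub, uc, ud, va, vb, vc, vd, ta, tb, tc, td])
      exact ⟨by show u • τ • z = τ • z; rw [← mul_smul, e1, mul_smul, hz.1],
        by show v • τ • z = τ • z; rw [← mul_smul, e2, mul_smul, mul_smul, hz.2, hz.1]⟩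
    have hle : F.ncard ≤ 3 := (Set.ncard_le_ncard Set.inter_subset_left (Set.toFinite _)).trans
      (fixed_two hG hα hsharp hu).le
    have hnofix : ∀ g ∈ ({x, τ} : Set G), ∀ z ∈ F, g • z ≠ z := by
      intro g hg z hz h
      have hzQ := h7 z (Or.inl (Or.inl hz.1))
      simp only [Set.mem_insert_iff, Set.mem_singleton_iff, not_or] at hzQ
      have hzo : z ≠ o := fun e => hno ⟨e ▸ hz.1, e ▸ hz.2⟩
      rcases hg with rfl | rfl
      · have : z ∈ ({d, o} : Set α) := hxF ▸ h
        rcases this with e | e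
        · exact hzQ.2.2.2 e
        · exact hzo e
      · have : z ∈ ({c, d, o} : Set α) := hτF ▸ h
        rcases this with e | e | e
        · exact hzQ.2.2.1 e
        · exact hzQ.2.2.2 e
        · exact hzo e
    obtain ⟨z, hz⟩ := hne
    have n1 : x • z ≠ z := hnofix x (by simp) z hz
    have n2 : x • x • z ≠ x • z := hnofix x (by simp) _ (hxF' z hz)
    have n3 : x • x • z ≠ z := fun h => n1 (by
      have hh := congrArg (fun q => x • q) h
      simp only [← mul_smul] at hh
      rw [show x * (x * x) = 1 by rw [← hx3]; simp [pow_succ, mul_assoc], one_smul] at hh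
      exact hh.symm)
    have hF3 : ({z, x • z, x • x • z} : Set α) = F := by
      refine Set.eq_of_subset_of_ncard_le ?_ ?_ (Set.toFinite _)
      · rintro q (rfl | rfl | rfl)
        exacts [hz, hxF' z hz, hxF' _ (hxF' z hz)]
      · rw [Set.ncard_eq_three.2 ⟨z, x • z, x • x • z, n1.symm, n3.symm, n2.symm, rfl⟩]; exact hle
    -- an involution of three points has a fixed point
    have hh : ∀ q : α, τ • τ • q = q := fun q => by rw [← mul_smul, ht2, one_smul]
    have m := fun q (hq : q ∈ F) => hnofix τ (by simp) q hq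
    rcases (hF3.symm ▸ hτF' z hz : τ • z ∈ ({z, x • z, x • x • z} : Set α)) with e | e | e
    · exact m z hz e
    · have e' : τ • (x • z) = z := by rw [← e, hh]
      rcases (hF3.symm ▸ hτF' _ (hxF' _ (hxF' z hz)) : τ • x • x • z ∈ ({z, x • z, x • x • z} : Set α)) with k | k | k
      · exact n2 (MulAction.injective τ (k.trans e'.symm))
      · exact n3 (MulAction.injective τ (k.trans e.symm))
      · exact m _ (hxF' _ (hxF' z hz)) k
    · have e' : τ • (x • x • z) = z := by rw [← e, hh]
      rcases (hF3.symm ▸ hτF' _ (hxF' z hz) : τ • x • z ∈ ({z, x • z, x • x • z} : Set α)) with k | k | k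
      · exact n2 (MulAction.injective τ (e'.trans k.symm))
      · exact m _ (hxF' z hz) k
      · exact n1 (MulAction.injective τ (k.trans e.symm))
  refine ⟨o, by simp [hoa, hob, hoc, hod], fun g hg => ?_⟩
  -- reduce to the point stabiliser of `d`
  have himg : ∀ k : G, k • ({a, b, c, d} : Finset α) = {a, b, c, d} → ∀ z ∈ ({a, b, c, d} : Finset α),
      k • z ∈ ({a, b, c, d} : Finset α) := fun k hk z hz => hk ▸ Finset.smul_mem_smul_finset hz
  obtain ⟨k, hko, hkd⟩ : ∃ k : G, k • o = o ∧ k • (g • d) = d ∧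
      ∀ z ∈ ({a, b, c, d} : Finset α), k • z ∈ ({a, b, c, d} : Finset α) := by
    have := himg g hg d (by simp)
    simp only [Finset.mem_insert, Finset.mem_singleton] at this
    rcases this with e | e | e | e
    · refine ⟨u * v, by rw [mul_smul, vo, uo], by rw [e, mul_smul, va, uc], fun z hz => ?_⟩
      simp only [Finset.mem_insert, Finset.mem_singleton] at hz ⊢
      rcases hz with rfl | rfl | rfl | rfl <;> simp [mul_smul, ua, ub, uc, ud, va, vb, vc, vd]
    · refine ⟨v, vo, by rw [e, vb], fun z hz => ?_⟩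
      simp only [Finset.mem_insert, Finset.mem_singleton] at hz ⊢
      rcases hz with rfl | rfl | rfl | rfl <;> simp [va, vb, vc, vd]
    · refine ⟨u, uo, by rw [e, uc], fun z hz => ?_⟩
      simp only [Finset.mem_insert, Finset.mem_singleton] at hz ⊢
      rcases hz with rfl | rfl | rfl | rfl <;> simp [ua, ub, uc, ud]
    · exact ⟨1, one_smul _ o, by rw [e, one_smul], fun z hz => by rwa [one_smul]⟩
  obtain ⟨hkd, hkQ⟩ := hkd
  set h := k * g with hh
  have hd : h • d = d := by rw [hh, mul_smul, hkd]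
  have hQ : ∀ z ∈ ({a, b, c, d} : Finset α), h • z ∈ ({a, b, c, d} : Finset α) := fun z hz => by
    rw [hh, mul_smul]; exact hkQ _ (himg g hg z hz)
  have habc : ∀ z, z = a ∨ z = b ∨ z = c → h • z = a ∨ h • z = b ∨ h • z = c := by
    intro z hz
    have := hQ z (by rcases hz with rfl | rfl | rfl <;> simp)
    simp only [Finset.mem_insert, Finset.mem_singleton] at this
    rcases this with e | e | e | e
    · exact Or.inl e
    · exact Or.inr (Or.inl e)
    · exact Or.inr (Or.inr e)
    · exfalso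
      have := MulAction.injective h (e.trans hd.symm)
      rcases hz with rfl | rfl | rfl
      exacts [h3 this, h5 this, h6 this]
  suffices ho : h • o = o by
    refine MulAction.injective k ?_
    show k • g • o = k • o
    rw [hko, ← mul_smul]
    exact ho
  have cyc : ∀ r : G, r • d = d → r • c = c → r • o = o → (∀ z, z = a ∨ z = b → r • z = a ∨ r • z = b) → True :=
    fun _ _ _ _ _ => trivial
  -- six possibilities
  have pick : ∃ r : G, r • o = o ∧ r • d = d ∧ r • a = h • a ∧ r • b = h • b ∧ r • c = h • c := by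
    rcases habc a (Or.inl rfl) with ea | ea | ea <;> rcases habc b (Or.inr (Or.inl rfl)) with eb | eb | eb <;>
      rcases habc c (Or.inr (Or.inr rfl)) with ec | ec | ec
    all_goals first
      | exact absurd (MulAction.injective h (ea.trans eb.symm)) h1
      | exact absurd (MulAction.injective h (ea.trans ec.symm)) h2
      | exact absurd (MulAction.injective h (eb.trans ec.symm)) h4
      | (refine ⟨1, ?_, ?_, ?_, ?_, ?_⟩ <;> simp only [mul_smul, one_smul, to', td, ta, tb, tc, xo, xd, xa, xb, xc, ea, eb, ec]; done)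
      | (refine ⟨τ, ?_, ?_, ?_, ?_, ?_⟩ <;> simp only [mul_smul, one_smul, to', td, ta, tb, tc, xo, xd, xa, xb, xc, ea, eb, ec]; done)
      | (refine ⟨x, ?_, ?_, ?_, ?_, ?_⟩ <;> simp only [mul_smul, one_smul, to', td, ta, tb, tc, xo, xd, xa, xb, xc, ea, eb, ec]; done)
      | (refine ⟨x * x, ?_, ?_, ?_, ?_, ?_⟩ <;> simp only [mul_smul, one_smul, to', td, ta, tb, tc, xo, xd, xa, xb, xc, ea, eb, ec]; done)
      | (refine ⟨x * τ, ?_, ?_, ?_, ?_, ?_⟩ <;> simp only [mul_smul, one_smul, to', td, ta, tb, tc, xo, xd, xa, xb, xc, ea, eb, ec]; done)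
      | (refine ⟨τ * x, ?_, ?_, ?_, ?_, ?_⟩ <;> simp only [mul_smul, one_smul, to', td, ta, tb, tc, xo, xd, xa, xb, xc, ea, eb, ec]; done)
  obtain ⟨r, ro, rd, ra, rb, rc⟩ := pick
  rw [← eq_of r h ra rb rc (by rw [rd, hd]), ro]

end Sharp

set_option maxHeartbeats 2000000 in
/-- Simple groups of order 7920 are automorphism groups of small Witt systems. -/
theorem exists_witt {G : Type u} [Group G] [Finite G] (hG : IsM11 G) :
    ∃ (α : Type u) (_ : Fintype α) (_ : DecidableEq α) (B : Set (Finset α)),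
      Fintype.card α = 11 ∧ IsSteinerSystem 4 5 B ∧ Nonempty (G ≃* setSystemAut B) := by
  classical
  obtain ⟨hs, hG⟩ := hG
  haveI := hs
  haveI := Fintype.ofFinite G
  obtain ⟨H, hH⟩ := exists_index_eleven hG
  let α : Type u := G ⧸ H
  have hα : Fintype.card α = 11 := by rw [← Nat.card_eq_fintype_card, ← hH, Subgroup.index_eq_card]
  let f : G →* Equiv.Perm α := MulAction.toPermHom G α
  have hinj : Function.Injective f := by
    rw [← MonoidHom.ker_eq_bot_iff]
    rcases (MonoidHom.normal_ker f).eq_bot_or_eq_top with h | h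
    · exact h
    · exfalso
      have hH' : H = ⊤ := by
        rw [eq_top_iff]
        intro g _
        have hg : g ∈ f.ker := by rw [h]; trivial
        have h1 : g • ((1 : G) : α) = ((1 : G) : α) := by
          have h' := DFunLike.congr_fun (MonoidHom.mem_ker.1 hg) (((1 : G) : α))
          simp only [f, MulAction.toPermHom_apply, MulAction.toPerm_apply, Equiv.Perm.one_apply] at h'
          exact h'
        rw [MulAction.Quotient.smul_mk, smul_eq_mul, mul_one] at h1
        simpa using QuotientGroup.eq.1 h1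
      rw [hH', Subgroup.index_top] at hH
      norm_num at hH
  let e := MonoidHom.ofInjective hinj
  haveI hpre : MulAction.IsPretransitive f.range α := ⟨fun p q => by
    obtain ⟨g, hg⟩ := MulAction.exists_smul_eq G p q
    exact ⟨⟨f g, g, rfl⟩, hg⟩⟩
  have hcard : Nat.card f.range = 7920 := by rw [← Nat.card_congr e.toEquiv, hG]
  have hns : ¬ Group.IsSolvable f.range := by
    intro hsol
    haveI := hsol
    haveI : Group.IsSolvable G := Group.isSolvable_of_isSolvable_injective (f := e.toMonoidHom) e.injective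
    have hc := IsSimpleGroup.comm_iff_isSolvable.2 this
    exact Chars.Order7920.not_comm hG hc
  have hA : ¬ alternatingGroup α ≤ f.range := fun h => by
    have h' := Subgroup.card_dvd_of_le h
    haveI : Nontrivial α := Fintype.one_lt_card_iff_nontrivial.1 (by omega)
    have h2 := two_mul_nat_card_alternatingGroup (α := α)
    rw [Nat.card_perm, Nat.card_eq_fintype_card (α := α), hα] at h2
    have : Nat.card (alternatingGroup α) = 19958400 := by
      have e11 : (Nat.factorial 11) = 39916800 := by decide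
      rw [e11] at h2
      omega
    rw [this, hcard] at h'
    norm_num at h'
  rcases Cfsg.Agent.PermGroups.DegreeEleven.main f.range hα hns hA with ⟨h4, hsharp⟩ | ⟨h660, -⟩
  · haveI := h4
    haveI : Fintype f.range := Fintype.ofFinite _
    haveI : Nontrivial f.range := Finite.one_lt_card_iff_nontrivial.1 (by rw [hcard]; norm_num)
    haveI : IsSimpleGroup f.range := IsSimpleGroup.isSimpleGroup_of_surjective e.toMonoidHom e.surjective
    let B : Set (Finset α) := {s | ∃ a b c d p : α, a ≠ b ∧ a ≠ c ∧ a ≠ d ∧ b ≠ c ∧ b ≠ d ∧ c ≠ d ∧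
      s = insert p {a, b, c, d} ∧ p ∉ ({a, b, c, d} : Finset α) ∧
        ∀ g : f.range, g • ({a, b, c, d} : Finset α) = {a, b, c, d} → g • p = p}
    have uniq : ∀ {a b c d p q : α}, a ≠ b → a ≠ c → a ≠ d → b ≠ c → b ≠ d → c ≠ d →
        p ∉ ({a, b, c, d} : Finset α) → q ∉ ({a, b, c, d} : Finset α) →
        (∀ g : f.range, g • ({a, b, c, d} : Finset α) = {a, b, c, d} → g • p = p) →
        (∀ g : f.range, g • ({a, b, c, d} : Finset α) = {a, b, c, d} → g • q = q) → p = q ∧
        ∃ x : f.range, orderOf x = 3 ∧ x • a = b ∧ x • b = c ∧ x • c = a ∧ x • d = d ∧ x • p = p ∧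
          MulAction.fixedBy α x = {d, p} := by
      intro a b c d p q h1 h2 h3 h4 h5 h6 hp hq hpg hqg
      obtain ⟨x, xa, xb, xc, xd⟩ := move_four hcard hα hsharp h1 h2 h3 h4 h5 h6 h4 h1.symm h5 h2.symm h6 h3
      have hx : orderOf x = 3 := by
        refine orderOf_three_of_pow (fix_four hcard hα hsharp h1 h2 h3 h4 h5 h6 ?_ ?_ ?_ ?_) fun h => h1 (by rw [← xa, h, one_smul])
        · simp [pow_succ, mul_smul, xa, xb, xc]
        · simp [pow_succ, mul_smul, xa, xb, xc]
        · simp [pow_succ, mul_smul, xa, xb, xc]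
        · simp [pow_succ, mul_smul, xd]
      have hxQ : x • ({a, b, c, d} : Finset α) = {a, b, c, d} := by
        simp only [Finset.smul_finset_insert, Finset.smul_finset_singleton, xa, xb, xc, xd]
        ext z; simp; tauto
      have hpd : p ≠ d := fun h => hp (by simp [h])
      have hF : MulAction.fixedBy α x = {d, p} := by
        refine (Set.eq_of_subset_of_ncard_le ?_ ?_ (Set.toFinite _)).symm
        · rintro z (rfl | rfl)
          exacts [xd, hpg x hxQ]
        · rw [fixed_three hcard hα hsharp hx, Set.ncard_pair hpd.symm]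
      refine ⟨?_, x, hx, xa, xb, xc, xd, hpg x hxQ, hF⟩
      have : q ∈ ({d, p} : Set α) := hF ▸ hqg x hxQ
      rcases this with rfl | rfl
      · exact absurd (by simp) hq
      · rfl
    -- changing the distinguished quadruple
    have rot : ∀ {a b c d p : α}, a ≠ b → a ≠ c → a ≠ d → b ≠ c → b ≠ d → c ≠ d →
        p ∉ ({a, b, c, d} : Finset α) → (∀ g : f.range, g • ({a, b, c, d} : Finset α) = {a, b, c, d} → g • p = p) →
        d ∉ ({a, b, c, p} : Finset α) ∧ ∀ g : f.range, g • ({a, b, c, p} : Finset α) = {a, b, c, p} → g • d = d := by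
      intro a b c d p h1 h2 h3 h4 h5 h6 hp hpg
      obtain ⟨-, x, hx, xa, xb, xc, xd, xp, hF⟩ := uniq h1 h2 h3 h4 h5 h6 hp hp hpg hpg
      simp only [Finset.mem_insert, Finset.mem_singleton, not_or] at hp
      obtain ⟨pa, pb, pc, pd⟩ := hp
      obtain ⟨q, hq, hqg⟩ := exists_fifth hcard hα hsharp h1 h2 (Ne.symm pa) h4 (Ne.symm pb) (Ne.symm pc)
      have hxQ : x • ({a, b, c, p} : Finset α) = {a, b, c, p} := by
        simp only [Finset.smul_finset_insert, Finset.smul_finset_singleton, xa, xb, xc, xp]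
        ext z; simp; tauto
      have : q ∈ ({d, p} : Set α) := hF ▸ hqg x hxQ
      rcases this with rfl | rfl
      · exact ⟨hq, hqg⟩
      · exact absurd (by simp) hq
    have hB : IsSteinerSystem 4 5 B := by
      refine ⟨fun s hs => ?_, fun T hT => ?_⟩
      · obtain ⟨a, b, c, d, p, h1, h2, h3, h4, h5, h6, rfl, hp, -⟩ := hs
        rw [Finset.card_insert_of_notMem hp]
        simp [h1, h2, h3, h4, h5, h6]
      · obtain ⟨a, b, c, d, h1, h2, h3, h4, h5, h6, rfl⟩ := Finset.card_eq_four.1 hT
        obtain ⟨p, hp, hpg⟩ := exists_fifth hcard hα hsharp h1 h2 h3 h4 h5 h6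
        refine ⟨insert p {a, b, c, d}, ⟨⟨a, b, c, d, p, h1, h2, h3, h4, h5, h6, rfl, hp, hpg⟩,
          Finset.subset_insert _ _⟩, ?_⟩
        rintro s ⟨⟨a', b', c', d', p', k1, k2, k3, k4, k5, k6, rfl, hp', hpg'⟩, hsub⟩
        have hTc : ({a, b, c, d} : Finset α).card = 4 := hT
        have hsc : (insert p' ({a', b', c', d'} : Finset α)).card = 5 := by
          rw [Finset.card_insert_of_notMem hp']
          simp [k1, k2, k3, k4, k5, k6]
        obtain ⟨o, ho⟩ := Finset.card_eq_one.1
          (show (insert p' ({a', b', c', d'} : Finset α) \ {a, b, c, d}).card = 1 by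
            rw [Finset.card_sdiff_of_subset hsub, hsc, hTc])
        have hoT : o ∉ ({a, b, c, d} : Finset α) := by
          have : o ∈ insert p' ({a', b', c', d'} : Finset α) \ {a, b, c, d} := by rw [ho]; simp
          exact (Finset.mem_sdiff.1 this).2
        have hos : insert p' ({a', b', c', d'} : Finset α) = insert o {a, b, c, d} := by
          rw [← Finset.sdiff_union_of_subset hsub, ho]; rfl
        -- the missing point is fixed by the setwise stabiliser
        have hfixo : ∀ g : f.range, g • ({a, b, c, d} : Finset α) = {a, b, c, d} → g • o = o := by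
          have hom : o ∈ insert p' ({a', b', c', d'} : Finset α) := by rw [hos]; simp
          have conv' : ∀ Q : Finset α, insert o Q = insert p' ({a', b', c', d'} : Finset α) → o ∉ Q →
              Q = {a, b, c, d} := fun Q hQ hoQ => by
            rw [← Finset.erase_insert hoQ, hQ, hos, Finset.erase_insert hoT]
          simp only [Finset.mem_insert, Finset.mem_singleton] at hom
          simp only [Finset.mem_insert, Finset.mem_singleton, not_or] at hp'
          obtain ⟨pa, pb, pc, pd⟩ := hp'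
          rcases hom with rfl | rfl | rfl | rfl | rfl
          · rwa [← conv' {a', b', c', d'} rfl (by simp [pa, pb, pc, pd])]
          · obtain ⟨u1, u2⟩ := rot k4.symm.symm k5 k1.symm k6 k2.symm k3.symm
              (show p' ∉ ({b', c', d', o} : Finset α) by simp [pa, pb, pc, pd]) (fun g hg => hpg' g (by
                have e : ({o, b', c', d'} : Finset α) = {b', c', d', o} := by ext z; simp; tauto
                rw [e]; exact hg))
            rwa [← conv' {b', c', d', p'} (by ext z; simp; tauto) u1]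
          · obtain ⟨u1, u2⟩ := rot k2 k3 k1 k6 k4.symm k5.symm
              (show p' ∉ ({a', c', d', o} : Finset α) by simp [pa, pb, pc, pd]) (fun g hg => hpg' g (by
                have e : ({a', o, c', d'} : Finset α) = {a', c', d', o} := by ext z; simp; tauto
                rw [e]; exact hg))
            rwa [← conv' {a', c', d', p'} (by ext z; simp; tauto) u1]
          · obtain ⟨u1, u2⟩ := rot k1 k3 k2 k5 k4 k6.symm
              (show p' ∉ ({a', b', d', o} : Finset α) by simp [pa, pb, pc, pd]) (fun g hg => hpg' g (by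
                have e : ({a', b', o, d'} : Finset α) = {a', b', d', o} := by ext z; simp; tauto
                rw [e]; exact hg))
            rwa [← conv' {a', b', d', p'} (by ext z; simp; tauto) u1]
          · obtain ⟨u1, u2⟩ := rot k1 k2 k3 k4 k5 k6
              (show p' ∉ ({a', b', c', o} : Finset α) by simp [pa, pb, pc, pd]) hpg'
            rwa [← conv' {a', b', c', p'} (by ext z; simp; tauto) u1]
        rw [hos, (uniq h1 h2 h3 h4 h5 h6 hoT hp hfixo hpg).1]
    have hle : f.range ≤ setSystemAut B := by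
      intro σ hσ
      refine Cfsg.Agent.Golay.mem_setSystemAut ?_
      rintro s ⟨a, b, c, d, p, h1, h2, h3, h4, h5, h6, rfl, hp, hpg⟩
      have hi := σ.injective
      refine ⟨σ a, σ b, σ c, σ d, σ p, hi.ne h1, hi.ne h2, hi.ne h3, hi.ne h4, hi.ne h5, hi.ne h6, ?_, ?_, fun g hg => ?_⟩
      · simp [Finset.smul_finset_insert, Finset.smul_finset_singleton]
      · simpa using hp
      · let k : f.range := ⟨σ, hσ⟩
        have hk : k • ({a, b, c, d} : Finset α) = {σ a, σ b, σ c, σ d} := by
          simp [Finset.smul_finset_insert, Finset.smul_finset_singleton, Subgroup.smul_def, k]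
        have h' := hpg (k⁻¹ * g * k) (by rw [mul_smul, mul_smul, hk, hg, ← hk, inv_smul_smul])
        rw [mul_smul, mul_smul, inv_smul_eq_iff] at h'
        exact h'
    have heq : f.range = setSystemAut B :=
      Subgroup.eq_of_le_of_card_ge hle (by rw [(Cfsg.Agent.Golay.aut11 hα hB).1.2, hcard])
    exact ⟨α, inferInstance, inferInstance, B, hα, hB, ⟨e.trans (MulEquiv.subgroupCongr heq)⟩⟩
  · exfalso
    omega

/-- Two simple groups of order 7920 are isomorphic. -/
theorem nonempty_mulEquiv {G : Type u} [Group G] [Finite G] (hG : IsM11 G) {K : Type*} [Group K] [Finite K]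
    (hK : IsM11 K) : Nonempty (G ≃* K) := by
  classical
  obtain ⟨α, _, _, B, hα, hB, ⟨e⟩⟩ := exists_witt hG
  obtain ⟨β, _, _, D, hβ, hD, ⟨e'⟩⟩ := exists_witt hK
  obtain ⟨h, hh⟩ := (Cfsg.Agent.Golay.small11 α hα B hB).iso (Cfsg.Agent.Golay.small11 β hβ D hD)
  have himg : ∀ (σ : Equiv.Perm α) (b : Finset α), h.permCongr σ • b.image h = (σ • b).image h := fun σ b => by
    rw [Finset.smul_finset_def, Finset.smul_finset_def, Finset.image_image, Finset.image_image]
    exact Finset.image_congr fun a _ => by simp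
  have hiff : ∀ σ, σ ∈ setSystemAut B ↔ h.permCongr σ ∈ setSystemAut D := fun σ => by
    constructor
    · refine fun hσ => Cfsg.Agent.Golay.mem_setSystemAut fun s hs => ?_
      rw [← hh] at hs ⊢
      obtain ⟨b, hb, rfl⟩ := hs
      exact ⟨σ • b, Cfsg.Agent.Golay.setSystemAut_maps hσ hb, (himg σ b).symm⟩
    · refine fun hσ => Cfsg.Agent.Golay.mem_setSystemAut fun b hb => ?_
      obtain ⟨c, hc, e''⟩ : h.permCongr σ • b.image h ∈ (fun b => b.image h) '' B :=
        hh.symm ▸ Cfsg.Agent.Golay.setSystemAut_maps hσ (hh ▸ ⟨b, hb, rfl⟩)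
      rw [himg] at e''
      rwa [← Finset.image_injective h.injective e'']
  have hmap : (setSystemAut B).map (h.permCongrHom : Equiv.Perm α ≃* Equiv.Perm β).toMonoidHom = setSystemAut D := by
    ext τ
    constructor
    · rintro ⟨σ, hσ, rfl⟩
      exact (hiff σ).1 hσ
    · intro hτ
      obtain ⟨σ, rfl⟩ := (h.permCongrHom : Equiv.Perm α ≃* Equiv.Perm β).surjective τ
      exact ⟨σ, (hiff σ).2 hτ, rfl⟩
  exact ⟨e.trans (((h.permCongrHom : Equiv.Perm α ≃* Equiv.Perm β).subgroupMap (setSystemAut B)).trans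
    ((MulEquiv.subgroupCongr hmap).trans e'.symm))⟩

end Cfsg.Agent.LeadWork.M11Uniq
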